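import Cfsg.Agent.Lib.Perm.RegularLinear
import Cfsg.Agent.Lib.Recognition.Zassenhaus.SL25

/-!
# Non-solvable linear groups regular on the non-zero vectors

A cyclic normal subgroup generates a field `L` over which the group is semilinear; counting leaves
only `|V| = 11², 29², 59²`.
-/

set_option autoImplicit false

namespace CfsgLib.Perm.Zassenhaus.Regular

open Polynomial CfsgLib.Recognition.NearField CfsgLib.Perm.RegularLinear

variable {p : ℕ} [Fact p.Prime] {V : Type*} [AddCommGroup V] [Module (ZMod p) V] [Finite V]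
  [Nontrivial V] {G : Type*} [Group G] [Finite G] {ρ : G →* Module.End (ZMod p) V}

omit [Nontrivial V] [Finite G] in
/-- In a transitive group the algebra generated by a normal cyclic subgroup has no zero divisors. -/
theorem no_zero_divisor
    (htr : ∀ v w : V, v ≠ 0 → w ≠ 0 → ∃ g : G, ρ g v = w)
    {a : G} (hnorm : ∀ g : G, g * a * g⁻¹ ∈ Subgroup.zpowers a) [Finite G]
    {x : Module.End (ZMod p) V} (hx : x ∈ Algebra.adjoin (ZMod p) {ρ a}) {v : V} (hv : v ≠ 0)
    (hxv : x v = 0) : x = 0 := by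
  classical
  set L := Algebra.adjoin (ZMod p) {ρ a} with hL
  have hcomm : ∀ y ∈ L, ∀ z ∈ L, y * z = z * y := by
    intro y hy z hz
    rw [hL, Algebra.adjoin_singleton_eq_range_aeval] at hy hz
    obtain ⟨f, rfl⟩ := hy
    obtain ⟨g, rfl⟩ := hz
    show aeval (ρ a) f * aeval (ρ a) g = _
    rw [← map_mul, mul_comm, map_mul]
    rfl
  let span : V → Submodule (ZMod p) V := fun w =>
    (Subalgebra.toSubmodule L).map ((LinearMap.applyₗ) w)
  have hmem : ∀ w u, u ∈ span w ↔ ∃ y ∈ L, y w = u := fun w u => Submodule.mem_map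
  have hconj : ∀ (g : G), ∀ y ∈ L, ρ g * y * ρ g⁻¹ ∈ L := by
    intro g y hy
    have hg : ρ g⁻¹ * ρ g = 1 := by rw [← map_mul, inv_mul_cancel, map_one]
    have hg' : ρ g * ρ g⁻¹ = 1 := by rw [← map_mul, mul_inv_cancel, map_one]
    induction hy using Algebra.adjoin_induction with
    | mem z hz =>
      rw [Set.mem_singleton_iff] at hz
      subst hz
      rw [← map_mul, ← map_mul]
      obtain ⟨k, hk⟩ := (isOfFinOrder_of_finite a).mem_zpowers_iff_mem_range_orderOf.mp (hnorm g)
        |> Finset.mem_image.mp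
      rw [← hk.2, map_pow]
      exact pow_mem (Algebra.self_mem_adjoin_singleton _ _) _
    | algebraMap r =>
      rw [← Algebra.commutes, mul_assoc, hg', mul_one]
      exact Subalgebra.algebraMap_mem _ r
    | add z w _ _ hz hw => rw [mul_add, add_mul]; exact add_mem hz hw
    | mul z w _ _ hz hw =>
      rw [show ρ g * (z * w) * ρ g⁻¹ = (ρ g * z * ρ g⁻¹) * (ρ g * w * ρ g⁻¹) by
        simp only [mul_assoc]; rw [← mul_assoc (ρ g⁻¹) (ρ g), hg, one_mul]]
      exact mul_mem hz hw
  -- a vector spanning a minimal invariant subspace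
  obtain ⟨v₀, hv₀, hmin⟩ : ∃ v₀ : V, v₀ ≠ 0 ∧ ∀ u ∈ span v₀, u ≠ 0 → v₀ ∈ span u := by
    obtain ⟨v₁, ⟨hv₁, hmin⟩⟩ := (Set.toFinite {w : V | w ≠ 0}).exists_minimalFor
      (fun w => Nat.card (span w)) _ ⟨v, hv⟩
    refine ⟨v₁, hv₁, fun u hu hu0 => ?_⟩
    have hle : span u ≤ span v₁ := by
      intro z hz
      obtain ⟨y, hy, rfl⟩ := (hmem u z).mp hz
      obtain ⟨y', hy', rfl⟩ := (hmem v₁ u).mp hu
      exact (hmem _ _).mpr ⟨y * y', mul_mem hy hy', rfl⟩
    have hle' : Nat.card (span u) ≤ Nat.card (span v₁) :=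
      Nat.card_le_card_of_injective _ (Submodule.inclusion_injective hle)
    have heq : (span u : Set V) = span v₁ :=
      Set.eq_of_subset_of_ncard_le hle (hmin hu0 hle') (Set.toFinite _)
    show v₁ ∈ (span u : Set V)
    rw [heq]
    exact (hmem _ _).mpr ⟨1, one_mem L, rfl⟩
  have hsimple : ∀ w : V, w ≠ 0 → ∀ u ∈ span w, u ≠ 0 → w ∈ span u := by
    intro w hw u hu hu0
    obtain ⟨g, rfl⟩ := htr v₀ w hv₀ hw
    obtain ⟨y, hy, rfl⟩ := (hmem _ _).mp hu
    have h1 := hconj g⁻¹ y hy
    rw [inv_inv] at h1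
    have hne : (ρ g⁻¹ * y * ρ g) v₀ ≠ 0 := by
      intro e
      apply hu0
      have := congrArg (ρ g) e
      rw [map_zero] at this
      rw [← this]
      show _ = (ρ g * (ρ g⁻¹ * y * ρ g)) v₀
      rw [← mul_assoc, ← mul_assoc, ← map_mul, mul_inv_cancel, map_one, one_mul]
      rfl
    obtain ⟨z, hz, hzv⟩ := (hmem _ _).mp (hmin _ ((hmem _ _).mpr ⟨_, h1, rfl⟩) hne)
    refine (hmem _ _).mpr ⟨_, hconj g z hz, ?_⟩
    conv_rhs => rw [← hzv]
    show (ρ g * z * ρ g⁻¹ * (y * ρ g)) v₀ = (ρ g * (z * (ρ g⁻¹ * y * ρ g))) v₀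
    simp only [mul_assoc]
  by_contra hx0
  obtain ⟨u, hu⟩ : ∃ u, x u ≠ 0 := by
    by_contra h
    push Not at h
    exact hx0 (LinearMap.ext h)
  have hu0 : u ≠ 0 := fun e => hu (by rw [e, map_zero])
  have hsum : x (u + v) = x u := by rw [map_add, hxv, add_zero]
  have huv : u + v ≠ 0 := fun e => hu (by rw [← hsum, e, map_zero])
  obtain ⟨z, hz, hz'⟩ := (hmem _ _).mp
    (hsimple _ huv (x (u + v)) ((hmem _ _).mpr ⟨x, hx, rfl⟩) (by rw [hsum]; exact hu))
  rw [hsum] at hz'
  have hvspan : v ∈ span u := by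
    refine (hmem _ _).mpr ⟨z * x - 1, sub_mem (mul_mem hz hx) (one_mem _), ?_⟩
    show z (x u) - u = v
    rw [hz', add_sub_cancel_left]
  obtain ⟨w, hw, hwu⟩ := (hmem _ _).mp (hsimple u hu0 v hvspan hv)
  apply hu
  rw [← hwu]
  show (x * w) v = 0
  rw [hcomm x hx w hw, Module.End.mul_apply, hxv, map_zero]

/-- The counting data of a transitive group with a cyclic normal subgroup. -/
theorem field_bound (h : Fpf ρ) (htr : ∀ v w : V, v ≠ 0 → w ≠ 0 → ∃ g : G, ρ g v = w)
    {a : G} (hnorm : ∀ g : G, g * a * g⁻¹ ∈ Subgroup.zpowers a)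
    (hnc : ∃ s t : G, Commute s a ∧ Commute t a ∧ ¬ Commute s t) :
    ∃ f k : ℕ, 0 < f ∧ 2 ≤ k ∧ Nat.card V = (p ^ f) ^ k ∧ orderOf a ∣ p ^ f - 1 ∧
      Nat.card (conjugatesOf a) ≤ f := by
  classical
  set L := Algebra.adjoin (ZMod p) {ρ a} with hL
  letI : CommRing L := Algebra.adjoinCommRingOfComm (ZMod p) (s := {ρ a}) (by
    intro y hy z hz
    rw [Set.mem_singleton_iff] at hy hz
    rw [hy, hz])
  have hLcomm : ∀ y z : L, y * z = z * y := mul_comm
  haveI : Finite L := Finite.of_injective (fun y : L => ((y : Module.End (ZMod p) V) : V → V))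
    fun y z e => Subtype.ext (LinearMap.ext (congrFun e))
  haveI : Nontrivial L := by
    obtain ⟨v, hv⟩ := exists_ne (0 : V)
    exact ⟨⟨1, 0, fun e => hv (LinearMap.congr_fun (congrArg Subtype.val e) v)⟩⟩
  have hfree : ∀ (y : L) (v : V), v ≠ 0 → (y : Module.End (ZMod p) V) v = 0 → y = 0 :=
    fun y v hv hy => Subtype.ext (no_zero_divisor htr hnorm y.2 hv hy)
  obtain ⟨v₀, hv₀⟩ := exists_ne (0 : V)
  haveI : NoZeroDivisors L := ⟨fun {y z} hyz => by
    by_cases hz : (z : Module.End (ZMod p) V) v₀ = 0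
    · exact Or.inr (hfree z v₀ hv₀ hz)
    · exact Or.inl (hfree y _ hz (LinearMap.congr_fun (congrArg Subtype.val hyz) v₀))⟩
  haveI : IsDomain L := NoZeroDivisors.to_isDomain L
  have hunit : ∀ y : L, y ≠ 0 → IsUnit y := by
    intro y hy
    obtain ⟨z, hz⟩ := (Finite.injective_iff_surjective.mp (mul_right_injective₀ hy)) 1
    exact IsUnit.of_mul_eq_one z hz
  set f := Module.finrank (ZMod p) L with hf
  set d := Module.finrank (ZMod p) V with hd
  have hp2 := (Fact.out : p.Prime).two_le
  have hcardL : Nat.card L = p ^ f := by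
    rw [Module.natCard_eq_pow_finrank (K := ZMod p) (V := L), Nat.card_zmod]
  have hcardV : Nat.card V = p ^ d := by
    rw [Module.natCard_eq_pow_finrank (K := ZMod p) (V := V), Nat.card_zmod]
  have hunits : Nat.card Lˣ = p ^ f - 1 := by
    haveI := Fintype.ofFinite L
    rw [Nat.card_congr (Equiv.ofBijective (fun u : Lˣ => (⟨u.val, u.ne_zero⟩ : {y : L // y ≠ 0}))
      ⟨fun u w e => Units.ext (congrArg Subtype.val e),
        fun y => ⟨(hunit y.1 y.2).unit, Subtype.ext (hunit y.1 y.2).unit_spec⟩⟩),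
      ← hcardL, Nat.card_eq_fintype_card, Nat.card_eq_fintype_card, Fintype.card_subtype_compl,
      Fintype.card_subtype_eq]
  have hdvd : p ^ f - 1 ∣ p ^ d - 1 := by
    letI : MulAction Lˣ {v : V // v ≠ 0} :=
      { smul := fun u v => ⟨((u : L) : Module.End (ZMod p) V) v.1,
          fun e => u.ne_zero (hfree _ _ v.2 e)⟩
        one_smul := fun v => Subtype.ext rfl
        mul_smul := fun u w v => Subtype.ext rfl }
    have hst : ∀ v : {v : V // v ≠ 0}, MulAction.stabilizer Lˣ v = ⊥ := fun v => by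
      rw [eq_bot_iff]
      intro u hu
      rw [Subgroup.mem_bot]
      apply Units.ext
      refine sub_eq_zero.mp (hfree _ v.1 v.2 ?_)
      show ((u : L) : Module.End (ZMod p) V) v.1 - v.1 = 0
      exact sub_eq_zero.mpr (congrArg Subtype.val (MulAction.mem_stabilizer_iff.mp hu))
    have hc := Nat.card_congr (MulAction.selfEquivOrbitsQuotientProd hst)
    rw [Nat.card_prod, hunits] at hc
    haveI := Fintype.ofFinite V
    have hsub : Nat.card {v : V // v ≠ 0} = p ^ d - 1 := by
      rw [← hcardV, Nat.card_eq_fintype_card, Nat.card_eq_fintype_card, Fintype.card_subtype_compl,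
        Fintype.card_subtype_eq]
    rw [hsub] at hc
    exact hc ▸ dvd_mul_left _ _
  have hf0 : 0 < f := Module.finrank_pos
  have hd0 : 0 < d := Module.finrank_pos
  obtain ⟨k, hk⟩ : f ∣ d := by
    have h1 : p ^ f - 1 ∣ p ^ Nat.gcd f d - 1 := by
      rw [← Nat.pow_sub_one_gcd_pow_sub_one]
      exact Nat.dvd_gcd dvd_rfl hdvd
    have hg : 0 < Nat.gcd f d := Nat.gcd_pos_of_pos_left d hf0
    have h2 : p ^ f ≤ p ^ Nat.gcd f d := by
      have hpos : 1 < p ^ Nat.gcd f d := Nat.one_lt_pow hg.ne' hp2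
      have := Nat.le_of_dvd (by omega) h1
      omega
    have h3 := (Nat.pow_le_pow_iff_right hp2).mp h2
    rw [← le_antisymm (Nat.le_of_dvd hf0 (Nat.gcd_dvd_left f d)) h3]
    exact Nat.gcd_dvd_right f d
  refine ⟨f, k, hf0, ?_, by rw [hcardV, ← pow_mul, ← hk], ?_, ?_⟩
  · by_contra hk2
    have hk1 : k = 1 := by
      rcases Nat.eq_zero_or_pos k with rfl | hk0
      · rw [mul_zero] at hk; omega
      · omega
    subst hk1
    rw [mul_one] at hk
    obtain ⟨s, t, hs, ht, hst⟩ := hnc
    have hbij : Function.Bijective fun y : L => (y : Module.End (ZMod p) V) v₀ := by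
      refine (Nat.bijective_iff_injective_and_card _).mpr ⟨fun y z e => ?_, by rw [hcardL, hcardV, hk]⟩
      exact sub_eq_zero.mp (hfree _ v₀ hv₀ (sub_eq_zero.mpr e))
    have hmem : ∀ g : G, Commute g a → ∃ y : L, ρ g = (y : Module.End (ZMod p) V) := by
      intro g hg
      obtain ⟨y, hy⟩ := hbij.2 (ρ g v₀)
      refine ⟨y, LinearMap.ext fun v => ?_⟩
      obtain ⟨⟨z, hz⟩, rfl⟩ := hbij.2 v
      have hc : Commute (ρ g) z := by
        induction hz using Algebra.adjoin_induction with
        | mem w hw => rw [Set.mem_singleton_iff] at hw; rw [hw]; exact hg.map ρ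
        | algebraMap r => exact (Algebra.commutes r (ρ g)).symm
        | add w w' _ _ hw hw' => exact hw.add_right hw'
        | mul w w' _ _ hw hw' => exact hw.mul_right hw'
      show (ρ g * z) v₀ = ((y : Module.End (ZMod p) V) * z) v₀
      rw [hc.eq, Module.End.mul_apply, ← hy]
      exact LinearMap.congr_fun (congrArg Subtype.val (hLcomm ⟨z, hz⟩ y)) v₀
    obtain ⟨ys, hys⟩ := hmem s hs
    obtain ⟨yt, hyt⟩ := hmem t ht
    apply hst
    apply h.injective
    rw [map_mul, map_mul, hys, hyt]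
    exact congrArg Subtype.val (hLcomm ys yt)
  · let al : L := ⟨ρ a, Algebra.self_mem_adjoin_singleton _ _⟩
    have hal : al ≠ 0 := by
      intro e
      have e2 : (ρ a⁻¹ * ρ a) v₀ = 0 := by
        rw [Module.End.mul_apply, show ρ a = 0 from congrArg Subtype.val e]
        simp
      rw [← map_mul, inv_mul_cancel, map_one] at e2
      exact hv₀ e2
    have h1 : (hunit al hal).unit ^ (p ^ f - 1) = 1 := by rw [← hunits]; exact pow_card_eq_one'
    apply orderOf_dvd_of_pow_eq_one
    apply h.injective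
    rw [map_pow, map_one]
    have h2 : al ^ (p ^ f - 1) = 1 := by
      rw [← (hunit al hal).unit_spec, ← Units.val_pow_eq_pow_val, h1, Units.val_one]
    have := congrArg L.val h2
    rw [map_pow, map_one] at this
    exact this
  · let al : L := ⟨ρ a, Algebra.self_mem_adjoin_singleton _ _⟩
    set P := (minpoly (ZMod p) al).map (algebraMap (ZMod p) L) with hP
    have hP0 : P ≠ 0 := Polynomial.map_ne_zero (minpoly.ne_zero (Algebra.IsIntegral.isIntegral al))
    have hmemL : ∀ c ∈ conjugatesOf a, ρ c ∈ L := fun c hc => by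
      obtain ⟨g, hg⟩ := isConj_iff.mp hc
      obtain ⟨k, hk⟩ := (isOfFinOrder_of_finite a).mem_zpowers_iff_mem_range_orderOf.mp (hnorm g)
        |> Finset.mem_image.mp
      rw [← hg, ← hk.2, map_pow]
      exact pow_mem (Algebra.self_mem_adjoin_singleton _ _) _
    have hroot : ∀ c : conjugatesOf a, (⟨ρ c.1, hmemL c.1 c.2⟩ : L) ∈ P.roots.toFinset := by
      rintro ⟨c, hc⟩
      rw [Multiset.mem_toFinset, mem_roots hP0, IsRoot.def, eval_map_algebraMap]
      apply Subtype.ext
      rw [← Subalgebra.coe_val, ← aeval_algHom_apply]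
      show aeval (ρ c) (minpoly (ZMod p) al) = 0
      obtain ⟨g, rfl⟩ := isConj_iff.mp hc
      have h0 : aeval (ρ a) (minpoly (ZMod p) al) = 0 := by
        have := congrArg L.val (minpoly.aeval (ZMod p) al)
        rw [← aeval_algHom_apply, map_zero] at this
        exact this
      have key : ∀ q : (ZMod p)[X], aeval (ρ (g * a * g⁻¹)) q = ρ g * aeval (ρ a) q * ρ g⁻¹ := by
        have hg : ρ g⁻¹ * ρ g = 1 := by rw [← map_mul, inv_mul_cancel, map_one]
        have hg' : ρ g * ρ g⁻¹ = 1 := by rw [← map_mul, mul_inv_cancel, map_one]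
        intro q
        induction q using Polynomial.induction_on with
        | C r => rw [aeval_C, aeval_C, ← Algebra.commutes, mul_assoc, hg', mul_one]
        | add q q' hq hq' => rw [map_add, map_add, hq, hq', mul_add, add_mul]
        | monomial m r hq =>
          have e : ∀ x : Module.End (ZMod p) V,
              aeval x (C r * X ^ (m + 1)) = aeval x (C r * X ^ m) * x := fun x => by
            rw [pow_succ, ← mul_assoc, map_mul, aeval_X]
          rw [e, e, hq, map_mul ρ, map_mul ρ]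
          simp only [map_mul]
          simp only [mul_assoc]
          rw [← mul_assoc (ρ g⁻¹) (ρ g), hg, one_mul]
      rw [key, h0, mul_zero, zero_mul]
    calc Nat.card (conjugatesOf a) ≤ Nat.card P.roots.toFinset :=
          Nat.card_le_card_of_injective (fun c => ⟨_, hroot c⟩) fun c d e =>
            Subtype.ext (h.injective (congrArg Subtype.val (congrArg Subtype.val e)))
      _ ≤ P.natDegree := by
          rw [Nat.card_eq_fintype_card, Fintype.card_coe]
          exact (Multiset.toFinset_card_le _).trans (card_roots' P)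
      _ ≤ Module.finrank (ZMod p) L := by
          rw [hP, natDegree_map]
          exact minpoly.natDegree_le al

end CfsgLib.Perm.Zassenhaus.Regular
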