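import Cfsg.Agent.Lib.Perm.Zassenhaus.Orders
import Cfsg.Agent.Lib.FrobRealize.Quaternion
import Cfsg.Agent.Lib.Fusion.Alperin
import Cfsg.Agent.Lib.BrauerSuzuki.Setup
import Cfsg.Agent.S3742

/-!
# Noncommuting elements of order three in a perfect fixed-point-free group
-/

set_option autoImplicit false

namespace CfsgLib.Perm.Zassenhaus

open Subgroup

section Perfect

variable {G : Type*} [Group G]

/-- A solvable quotient of a perfect group is trivial. -/
theorem eq_top_of_solvable_quotient (hperf : commutator G = ⊤) (N : Subgroup G) [N.Normal]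
    [Group.IsSolvable (G ⧸ N)] : N = ⊤ := by
  by_contra h
  haveI : Nontrivial (G ⧸ N) := QuotientGroup.nontrivial_iff.mpr h
  refine (Group.IsSolvable.commutator_lt_top_of_nontrivial (G := G ⧸ N)).ne ?_
  rw [commutator_def, ← Subgroup.map_top_of_surjective (QuotientGroup.mk' N) (QuotientGroup.mk'_surjective N),
    ← Subgroup.map_commutator, ← commutator_def, hperf]

/-- A perfect group with a normal `p`-complement has order prime to `p`. -/
theorem not_dvd_of_npc [Finite G] {p : ℕ} [Fact p.Prime] (hperf : commutator G = ⊤)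
    (h : Cfsg.HasNormalPComplement p G) : ¬ p ∣ Nat.card G := by
  obtain ⟨P, N, hN, hc⟩ := h
  haveI := hN
  haveI : Group.IsSolvable (G ⧸ N) := by
    haveI : Group.IsNilpotent (G ⧸ N) :=
      (P.2.of_equiv hc.symm.QuotientMulEquiv.symm).isNilpotent
    infer_instance
  have := eq_top_of_solvable_quotient hperf N
  subst this
  have hP : (P : Subgroup G) = ⊥ := Subgroup.isComplement'_top_left.mp hc
  have hd := P.not_dvd_index
  rwa [hP, Subgroup.index_bot] at hd

end Perfect

section Quaternion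

variable {k : ℕ}

open QuaternionGroup

/-- Automorphisms of odd order of a large generalized quaternion group are trivial. -/
theorem aut_quaternion_odd (hk : 2 ≤ k) (φ : MulAut (QuaternionGroup (2 ^ k))) {m : ℕ}
    (hm : Odd m) (hφ : φ ^ m = 1) : φ = 1 := by
  haveI : NeZero (2 ^ k) := ⟨by positivity⟩
  have h4 : 4 ≤ 2 ^ k := by calc 4 = 2 ^ 2 := rfl
                                _ ≤ 2 ^ k := Nat.pow_le_pow_right two_pos hk
  obtain ⟨r, hr⟩ : ∃ r : ZMod (2 * 2 ^ k), φ (a 1) = a r := by
    have ho : orderOf (φ (a 1)) = 2 * 2 ^ k := by rw [φ.orderOf_eq, orderOf_a_one]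
    rcases hx : φ (a 1) with i | i
    · exact ⟨i, rfl⟩
    · rw [hx, orderOf_xa] at ho; omega
  have hai : ∀ i, φ (a i) = a (r * i) := by
    intro i
    obtain ⟨j, rfl⟩ : ∃ j : ℕ, (j : ZMod (2 * 2 ^ k)) = i := ⟨i.val, ZMod.natCast_zmod_val i⟩
    rw [← a_one_pow, map_pow, hr]
    induction j with
    | zero => rw [pow_zero, Nat.cast_zero, mul_zero]; rfl
    | succ j ih => rw [pow_succ, ih, a_mul_a, Nat.cast_succ, mul_add, mul_one]
  obtain ⟨l, hl⟩ : ∃ l, φ (xa 0) = xa l := by
    rcases hx : φ (xa 0) with i | i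
    · exfalso
      obtain ⟨s, hs⟩ : ∃ s, φ.symm (a i) = xa s := ⟨0, by rw [← hx, MulEquiv.symm_apply_apply]⟩
      have h1 : a 1 * a i = a i * a (1 : ZMod (2 * 2 ^ k)) := by rw [a_mul_a, a_mul_a, add_comm]
      have h2 := congrArg φ.symm h1
      rw [map_mul, map_mul, hs] at h2
      rcases hy : φ.symm (a 1) with t | t
      · rw [hy, a_mul_xa, xa_mul_a] at h2
        injection h2 with h2
        have h3 : orderOf (a t : QuaternionGroup (2 ^ k)) = 2 * 2 ^ k := by
          rw [← hy, φ.symm.orderOf_eq, orderOf_a_one]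
        have h4' : (a t : QuaternionGroup (2 ^ k)) ^ 2 = 1 := by
          rw [pow_two, a_mul_a, show t + t = 0 by linear_combination -h2]
          rfl
        have := orderOf_dvd_of_pow_eq_one h4'
        rw [h3] at this
        have := Nat.le_of_dvd two_pos this
        omega
      · have h3 : orderOf (xa t : QuaternionGroup (2 ^ k)) = 2 * 2 ^ k := by
          rw [← hy, φ.symm.orderOf_eq, orderOf_a_one]
        rw [orderOf_xa] at h3
        omega
    · exact ⟨i, rfl⟩
  have hpow : ∀ j : ℕ, ∀ i, (φ ^ j) (a i) = a (r ^ j * i) := by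
    intro j
    induction j with
    | zero => intro i; simp
    | succ j ih => intro i; rw [pow_succ' φ, MulAut.mul_apply, ih, hai, ← mul_assoc, ← pow_succ' r]
  have hr1 : r = 1 := by
    have h1 := hpow m 1
    rw [hφ, MulAut.one_apply, mul_one] at h1
    injection h1 with h1
    let u : (ZMod (2 * 2 ^ k))ˣ := ⟨r, r ^ (m - 1),
      by rw [← pow_succ' r, Nat.sub_add_cancel hm.pos, ← h1],
      by rw [← pow_succ r, Nat.sub_add_cancel hm.pos, ← h1]⟩
    have hu : u ^ m = 1 := Units.ext (by rw [Units.val_pow_eq_pow_val]; exact h1.symm)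
    have hcard : Nat.card (ZMod (2 * 2 ^ k))ˣ = 2 ^ k := by
      rw [Nat.card_eq_fintype_card, ZMod.card_units_eq_totient, ← pow_succ',
        Nat.totient_prime_pow_succ Nat.prime_two]
      simp
    have hd := _root_.orderOf_dvd_natCard u
    rw [hcard] at hd
    have := orderOf_eq_one_iff.mp (Nat.eq_one_of_dvd_coprimes
      (Nat.Coprime.pow_right k hm.coprime_two_right) (orderOf_dvd_of_pow_eq_one hu) hd)
    exact congrArg Units.val this
  subst hr1
  simp only [one_mul] at hai
  have hxi : ∀ i, φ (xa i) = xa (l + i) := by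
    intro i
    rw [show (xa i : QuaternionGroup (2 ^ k)) = xa 0 * a i by rw [xa_mul_a, zero_add], map_mul, hl,
      hai, xa_mul_a]
  have hpx : ∀ j : ℕ, (φ ^ j) (xa 0) = xa ((j : ZMod (2 * 2 ^ k)) * l) := by
    intro j
    induction j with
    | zero => simp
    | succ j ih =>
      rw [pow_succ', MulAut.mul_apply, ih, hxi]
      push_cast
      rw [add_comm l, add_mul, one_mul]
  have hl0 : l = 0 := by
    have h1 := hpx m
    rw [hφ, MulAut.one_apply] at h1
    injection h1 with h1
    have hu : IsUnit (m : ZMod (2 * 2 ^ k)) := by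
      rw [ZMod.isUnit_iff_coprime, ← pow_succ']
      exact Nat.Coprime.pow_right _ hm.coprime_two_right
    exact hu.mul_right_eq_zero.mp h1.symm
  refine MulEquiv.ext fun x => ?_
  rcases x with i | i
  · rw [hai]; rfl
  · rw [hxi, hl0, zero_add]; rfl

end Quaternion

section Fpf

variable {G : Type*} [Group G] [Finite G] {n : ℕ} [NeZero n]
  {ρ : G →* Matrix (Fin n) (Fin n) ℚ} (hρ : ∀ g : G, g ≠ 1 → IsUnit (ρ g - 1))
include hρ

omit [Finite G] [NeZero n] in
theorem sum_pow_eq_zero {w : G} {p : ℕ} (hw : w ^ p = 1) (hw1 : w ≠ 1) :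
    ∑ i ∈ Finset.range p, ρ w ^ i = 0 := by
  refine (hρ w hw1).mul_right_eq_zero.mp ?_
  rw [mul_geom_sum, ← map_pow, hw, map_one, sub_self]

/-- There is no elementary abelian subgroup of rank two. -/
theorem mem_zpowers_of_commute {p : ℕ} (hp : p.Prime) {x y : G} (hx : x ^ p = 1) (hy : y ^ p = 1)
    (hx1 : x ≠ 1) (h : Commute x y) : y ∈ zpowers x := by
  by_contra hyx
  have hfirst : ∀ i ∈ Finset.range p, i ≠ 0 →
      ∑ k ∈ Finset.range p, ρ (x ^ k * y) ^ i = 0 := by
    intro i hi hi0
    have hxi : x ^ i ≠ 1 := by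
      refine pow_ne_one_of_lt_orderOf hi0 ?_
      haveI := Fact.mk hp
      rw [orderOf_eq_prime hx hx1]
      exact Finset.mem_range.mp hi
    have e : ∀ k, ρ (x ^ k * y) ^ i = ρ (x ^ i) ^ k * ρ (y ^ i) := fun k => by
      rw [← map_pow, ← map_pow, ← map_mul, (h.pow_left k).mul_pow, ← pow_mul, ← pow_mul,
        mul_comm k i]
    rw [Finset.sum_congr rfl fun k _ => e k, ← Finset.sum_mul,
      sum_pow_eq_zero hρ (by rw [← pow_mul, mul_comm, pow_mul, hx, one_pow]) hxi, zero_mul]
  have htot : ∑ i ∈ Finset.range p, ∑ k ∈ Finset.range p, ρ (x ^ k * y) ^ i = 0 := by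
    rw [Finset.sum_comm]
    refine Finset.sum_eq_zero fun k _ => sum_pow_eq_zero hρ ?_ fun e => hyx ?_
    · rw [(h.pow_left k).mul_pow, ← pow_mul, mul_comm, pow_mul, hx, one_pow, hy, one_mul]
    · rw [eq_inv_of_mul_eq_one_right e]
      exact inv_mem (pow_mem (mem_zpowers x) k)
  rw [Finset.sum_eq_single_of_mem 0 (Finset.mem_range.mpr hp.pos) hfirst] at htot
  simp only [pow_zero, Finset.sum_const, Finset.card_range] at htot
  rw [← Nat.cast_smul_eq_nsmul ℚ] at htot
  exact hp.ne_zero (Nat.cast_eq_zero.mp ((smul_eq_zero.mp htot).resolve_right one_ne_zero))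

theorem card_roots_le {p : ℕ} [hp : Fact p.Prime] {P : Subgroup G} (hP : IsPGroup p P) :
    Nat.card {x : P // x ^ p = 1} ≤ p := by
  rcases subsingleton_or_nontrivial P with hs | hnt
  · exact (Nat.card_le_card_of_injective (fun x : {x : P // x ^ p = 1} => x.1)
      Subtype.val_injective).trans (Nat.card_of_subsingleton (1 : P) ▸ hp.out.one_le)
  haveI := hP.center_nontrivial
  obtain ⟨k, hk, hcard⟩ := (hP.to_subgroup (center P)).nontrivial_iff_card.mp inferInstance
  obtain ⟨z, hz⟩ := exists_prime_orderOf_dvd_card' (G := center P) p (by rw [hcard]; exact dvd_pow_self p hk.ne')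
  have hz1 : ((z : P) : G) ≠ 1 := by
    intro e
    have : z = 1 := Subtype.ext (Subtype.ext e)
    rw [this, orderOf_one] at hz
    exact hp.out.one_lt.ne hz
  have hzp : ((z : P) : G) ^ p = 1 := by
    rw [← SubmonoidClass.coe_pow, ← SubmonoidClass.coe_pow, ← hz, pow_orderOf_eq_one]; rfl
  have hmem : ∀ x : P, x ^ p = 1 → (x : G) ∈ zpowers ((z : P) : G) := by
    intro x hx
    refine mem_zpowers_of_commute hρ hp.out hzp ?_ hz1 ?_
    · rw [← SubmonoidClass.coe_pow, hx]; rfl
    · exact congrArg Subtype.val (mem_center_iff.mp z.2 x).symm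
  calc Nat.card {x : P // x ^ p = 1}
      ≤ Nat.card (zpowers ((z : P) : G)) := Nat.card_le_card_of_injective
        (fun x => ⟨_, hmem x.1 x.2⟩) fun u v h => Subtype.ext (Subtype.ext (congrArg Subtype.val h :))
    _ ≤ p := by rw [Nat.card_zpowers]; exact orderOf_le_of_pow_eq_one hp.out.pos hzp

theorem cyclic_or_quaternion {p : ℕ} [Fact p.Prime] {P : Subgroup G} (hP : IsPGroup p P) :
    IsCyclic P ∨ (p = 2 ∧ ∃ k : ℕ, Nonempty (P ≃* QuaternionGroup (2 ^ k))) :=
  CfsgLib.FrobRealize.Quaternion.cyclic_or_quaternion hP (card_roots_le hρ hP)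

theorem isCyclic_of_odd {p : ℕ} [Fact p.Prime] (hp : p ≠ 2) {P : Subgroup G} (hP : IsPGroup p P) :
    IsCyclic P :=
  (cyclic_or_quaternion hρ hP).resolve_right fun h => hp h.1

/-- A perfect nontrivial fixed-point-free group has order divisible by three. -/
theorem three_dvd (hperf : commutator G = ⊤) [Nontrivial G] : 3 ∣ Nat.card G := by
  classical
  by_contra h3
  have h2 : ¬ 2 ∣ Nat.card G := by
    refine not_dvd_of_npc hperf ?_
    obtain ⟨P⟩ : Nonempty (Sylow 2 G) := inferInstance
    refine CfsgLib.Fusion.Alperin.npc_of_frobenius P fun Q hQ g hg hco => ?_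
    have hodd : Odd (orderOf g) := Nat.coprime_two_right.mp hco
    have hQ2 : IsPGroup 2 Q := P.2.to_le hQ
    rcases cyclic_or_quaternion hρ hQ2 with hc | ⟨-, k, ⟨e⟩⟩
    · exact CfsgLib.BrauerSuzuki.cyclic_fixed hQ2 hg hodd
    rcases Nat.eq_zero_or_pos k with rfl | hk
    · haveI : IsCyclic (QuaternionGroup (2 ^ 0)) :=
        ⟨QuaternionGroup.xa 0, fun x => by
          show x ∈ zpowers _
          revert x
          have : ∀ x : QuaternionGroup 1, ∃ i : Fin 4, QuaternionGroup.xa 0 ^ (i : ℕ) = x := by decide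
          intro x
          obtain ⟨i, hi⟩ := this x
          exact hi ▸ pow_mem (mem_zpowers _) _⟩
      haveI : IsCyclic Q := isCyclic_of_surjective e.symm.toMonoidHom e.symm.surjective
      exact CfsgLib.BrauerSuzuki.cyclic_fixed hQ2 hg hodd
    set u := MulAut.congr e (Subgroup.normalizerMonoidHom Q ⟨g, hg⟩) with hu
    have hum : u ^ orderOf g = 1 := by
      rw [hu, ← map_pow, ← map_pow, show (⟨g, hg⟩ : normalizer (Q : Set G)) ^ orderOf g = 1 from
        Subtype.ext (pow_orderOf_eq_one g), map_one, map_one]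
    have hu1 : u = 1 := by
      rcases Nat.lt_or_ge k 2 with hk2 | hk2
      · obtain rfl : k = 1 := by omega
        obtain ⟨f⟩ := Cfsg.Agent.S3742.result
        have h24 : orderOf u ∣ 24 := by
          have hd := orderOf_dvd_natCard (f (u : MulAut (QuaternionGroup 2)))
          rwa [f.orderOf_eq, Nat.card_perm, Nat.card_fin] at hd
        have hg3 : Nat.Coprime (orderOf g) 24 := by
          have h3g : ¬ 3 ∣ orderOf g := fun h => h3 (h.trans (orderOf_dvd_natCard g))
          rw [show 24 = 2 ^ 3 * 3 from rfl]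
          exact Nat.Coprime.mul_right (hco.pow_right 3)
            ((Nat.prime_three.coprime_iff_not_dvd.mpr h3g).symm)
        exact orderOf_eq_one_iff.mp
          (Nat.eq_one_of_dvd_coprimes hg3 (orderOf_dvd_of_pow_eq_one hum) h24)
      · exact aut_quaternion_odd hk2 u hodd hum
    have hker : (⟨g, hg⟩ : normalizer (Q : Set G)) ∈ (Subgroup.normalizerMonoidHom Q).ker :=
      (MulAut.congr e).injective (hu1.trans (map_one (MulAut.congr e)).symm)
    rw [Subgroup.normalizerMonoidHom_ker] at hker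
    exact hker
  haveI : IsZGroup G := ⟨fun p hp P => by
    haveI := Fact.mk hp
    by_cases hp2 : p = 2
    · subst hp2
      rw [(P : Subgroup G).eq_bot_of_card_eq (by
        obtain ⟨k, hk⟩ := P.2.exists_card_eq
        rcases Nat.eq_zero_or_pos k with rfl | hk0
        · simpa using hk
        · exact absurd ((dvd_pow_self 2 hk0.ne').trans (hk ▸ card_subgroup_dvd_card _)) h2)]
      infer_instance
    · exact isCyclic_of_odd hρ hp2 P.2⟩
  exact (Group.IsSolvable.commutator_lt_top_of_nontrivial (G := G)).ne hperf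

/-- A perfect nontrivial fixed-point-free group has noncommuting elements of order three. -/
theorem exists_noncommuting (hperf : commutator G = ⊤) [Nontrivial G] :
    ∃ a c : G, orderOf a = 3 ∧ orderOf c = 3 ∧ ¬ Commute a c := by
  have h3 := three_dvd hρ hperf
  haveI : Fact (Nat.Prime 3) := ⟨Nat.prime_three⟩
  by_contra hno
  push Not at hno
  have hcent : ∀ a : G, orderOf a = 3 → ∀ g : G, Commute g a := by
    intro a ha
    have ha3 : a ^ 3 = 1 := ha ▸ pow_orderOf_eq_one a
    have ha1 : a ≠ 1 := fun e => by simp [e] at ha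
    haveI : (zpowers a).Normal := ⟨fun x hx g => by
      obtain ⟨i, rfl⟩ := mem_zpowers_iff.mp hx
      rw [← conj_zpow]
      refine zpow_mem ?_ i
      refine mem_zpowers_of_commute hρ Nat.prime_three ha3 (by rw [conj_pow, ha3]; group) ha1
        (hno a _ ha ?_)
      rw [← MulAut.conj_apply, MulEquiv.orderOf_eq]; exact ha⟩
    let φ : G →* MulAut (zpowers a) := MulAut.conjNormal
    have hker : φ.ker = ⊤ := by
      haveI : Group.IsSolvable (G ⧸ φ.ker) := by
        haveI : IsMulCommutative (MulAut (zpowers a)) :=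
          ⟨⟨fun u v => MulEquiv.ext fun x => by
            obtain ⟨ku, hku⟩ := MonoidHom.map_cyclic u.toMonoidHom
            obtain ⟨kv, hkv⟩ := MonoidHom.map_cyclic v.toMonoidHom
            simp only [MulAut.mul_apply]
            change u.toMonoidHom (v.toMonoidHom x) = v.toMonoidHom (u.toMonoidHom x)
            rw [hkv, hku, hku, hkv, ← zpow_mul, ← zpow_mul, mul_comm]⟩⟩
        exact Group.isSolvable_of_comm fun u v => QuotientGroup.kerLift_injective φ (by rw [map_mul, map_mul]; exact mul_comm' _ _)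
      exact eq_top_of_solvable_quotient hperf _
    intro g
    have e : φ g = 1 := MonoidHom.mem_ker.mp (hker ▸ mem_top g)
    have := congrArg Subtype.val (DFunLike.congr_fun e ⟨a, mem_zpowers a⟩)
    simp only [φ, MulAut.conjNormal_apply, MulAut.one_apply] at this
    exact mul_inv_eq_iff_eq_mul.mp this
  refine not_dvd_of_npc hperf ?_ h3
  obtain ⟨P⟩ : Nonempty (Sylow 3 G) := inferInstance
  refine CfsgLib.Fusion.Alperin.npc_of_frobenius P fun Q hQ g hg hco => ?_
  have hQ3 : IsPGroup 3 Q := P.2.to_le hQ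
  haveI := isCyclic_of_odd hρ (by norm_num) hQ3
  obtain ⟨⟨q, hq⟩, hgen⟩ := IsCyclic.exists_generator (α := Q)
  obtain ⟨e, he⟩ : ∃ e, orderOf q = 3 ^ e := by
    obtain ⟨e, he⟩ := IsPGroup.iff_orderOf.mp hQ3 ⟨q, hq⟩
    exact ⟨e, by rwa [Subgroup.orderOf_mk] at he⟩
  suffices hgq : Commute g q by
    rw [mem_centralizer_iff]
    intro y hy
    obtain ⟨i, hi⟩ := mem_zpowers_iff.mp (hgen ⟨y, hy⟩)
    have hi' : q ^ i = y := by simpa using congrArg Subtype.val hi
    rw [← hi']
    exact ((hgq.zpow_right i).eq).symm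
  rcases Nat.eq_zero_or_pos e with rfl | he0
  · rw [pow_zero, orderOf_eq_one_iff] at he
    rw [he]; exact Commute.one_right g
  obtain ⟨k, hk⟩ : ∃ k : ℤ, g * q * g⁻¹ = q ^ k := by
    obtain ⟨k, hk⟩ := mem_zpowers_iff.mp (hgen ⟨g * q * g⁻¹, (mem_normalizer_iff.mp hg q).mp hq⟩)
    exact ⟨k, by simpa using (congrArg Subtype.val hk).symm⟩
  have h1 : (3 : ℤ) ∣ k - 1 := by
    set a := q ^ 3 ^ (e - 1) with hadef
    have hao : orderOf a = 3 := by
      rw [hadef, orderOf_pow' _ (by positivity), he,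
        Nat.gcd_eq_right (pow_dvd_pow 3 (Nat.sub_le e 1)), Nat.pow_div (Nat.sub_le e 1) (by norm_num),
        show e - (e - 1) = 1 by omega, pow_one]
    have hc := hcent a hao g
    have : a ^ (k - 1) = 1 := by
      rw [zpow_sub_one, hadef, ← zpow_natCast, ← zpow_mul, mul_comm, zpow_mul, ← hk, conj_zpow,
        zpow_natCast, ← hadef, hc.eq, mul_inv_cancel_right, mul_inv_cancel]
    have := orderOf_dvd_iff_zpow_eq_one.mpr this
    rwa [hao] at this
  have hiter : ∀ j : ℕ, g ^ j * q * (g ^ j)⁻¹ = q ^ (k ^ j) := by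
    intro j
    induction j with
    | zero => simp
    | succ j ih =>
      rw [pow_succ' g, pow_succ k, zpow_mul, ← ih, conj_zpow, ← hk]
      group
  have hm := hiter (orderOf g)
  rw [pow_orderOf_eq_one, one_mul, inv_one, mul_one] at hm
  have hdvd : (3 ^ e : ℤ) ∣ k ^ orderOf g - 1 := by
    have h0 : q ^ (k ^ orderOf g - 1) = 1 := by rw [zpow_sub_one, ← hm, mul_inv_cancel]
    have := orderOf_dvd_iff_zpow_eq_one.mpr h0
    rw [he] at this
    exact_mod_cast this
  rw [← geom_sum_mul] at hdvd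
  have hcop : IsCoprime ((3 : ℤ) ^ e) (∑ i ∈ Finset.range (orderOf g), k ^ i) := by
    refine IsCoprime.pow_left ((Int.prime_three.coprime_iff_not_dvd).mpr fun hd => ?_)
    have hmod : ((∑ i ∈ Finset.range (orderOf g), k ^ i : ℤ) : ZMod 3) = (orderOf g : ZMod 3) := by
      have hk1 : ((k : ℤ) : ZMod 3) = 1 := by
        have := (ZMod.intCast_zmod_eq_zero_iff_dvd (k - 1) 3).mpr (by exact_mod_cast h1)
        push_cast at this
        exact sub_eq_zero.mp this
      push_cast
      simp [hk1]
    rw [(ZMod.intCast_zmod_eq_zero_iff_dvd _ 3).mpr (by exact_mod_cast hd)] at hmod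
    exact Nat.prime_three.coprime_iff_not_dvd.mp hco.symm ((ZMod.natCast_eq_zero_iff _ 3).mp hmod.symm)
  have hk' := hcop.dvd_of_dvd_mul_left hdvd
  have : q ^ (k - 1) = 1 := orderOf_dvd_iff_zpow_eq_one.mp (by rw [he]; exact_mod_cast hk')
  rw [zpow_sub_one, ← hk, mul_inv_eq_one] at this
  exact mul_inv_eq_iff_eq_mul.mp this

end Fpf

end CfsgLib.Perm.Zassenhaus
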