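import Cfsg.Agent.Lib.Perm.Zassenhaus.Reduce
import Cfsg.Agent.Lib.Perm.Zassenhaus.Existence
import Cfsg.Agent.Lib.NumberTheory.SwapClosure

/-!
# Perfect fixed-point-free linear groups

A nontrivial perfect finite group with a fixed-point-free rational representation is `SL(2, 5)`.
-/

set_option autoImplicit false

namespace CfsgLib.Perm.Zassenhaus

open Matrix

theorem card_sl_two_five : Nat.card (Matrix.SpecialLinearGroup (Fin 2) (ZMod 5)) = 120 := by
  rw [Nat.card_eq_fintype_card]
  decide +kernel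

theorem card_order_three_sl_two_five :
    Nat.card {A : Matrix.SpecialLinearGroup (Fin 2) (ZMod 5) // A ^ 3 = 1 ∧ A ≠ 1} = 20 := by
  rw [Nat.card_eq_fintype_card]
  decide +kernel

theorem isSolvable_of_card_le_six {H : Type*} [Group H] [Finite H] (h : Nat.card H ≤ 6) :
    Group.IsSolvable H := by
  by_cases h4 : Nat.card H = 4
  · haveI : Fact (Nat.Prime 2) := ⟨Nat.prime_two⟩
    haveI : Group.IsNilpotent H :=
      (IsPGroup.of_card (p := 2) (n := 2) (by rw [h4]; norm_num)).isNilpotent
    infer_instance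
  · have hs : Squarefree (Nat.card H) := by
      have h0 : 0 < Nat.card H := Nat.card_pos
      interval_cases hc : Nat.card H <;>
        first
        | exact absurd rfl h4
        | exact squarefree_one
        | exact (Nat.squarefree_mul (by norm_num : Nat.Coprime 2 3)).mpr
            ⟨Nat.prime_two.prime.squarefree, Nat.prime_three.prime.squarefree⟩
        | exact Nat.Prime.prime (by norm_num) |>.squarefree
    haveI := IsZGroup.of_squarefree hs
    infer_instance

variable {G : Type*} [Group G] [Finite G] {n : ℕ} [NeZero n]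
  {ρ : G →* Matrix (Fin n) (Fin n) ℚ}

theorem orderOf_conj_three (g c : G) (hc : orderOf c = 3) : orderOf (g * c * g⁻¹) = 3 := by
  rw [← MulAut.conj_apply, MulEquiv.orderOf_eq]; exact hc

theorem exists_icos (hρ : ∀ g : G, g ≠ 1 → IsUnit (ρ g - 1)) (hperf : commutator G = ⊤)
    [Nontrivial G] : ∃ (a b c : G) (S : Kc ρ a b), Icos ρ a b c S := by
  classical
  obtain ⟨a, b, ha, hb, hab⟩ := exists_pair hρ (exists_noncommuting hρ hperf)
  have T : Pair ρ a b := ⟨hρ, ha, hb, hab⟩
  by_cases hex : ∃ c, orderOf c = 3 ∧ c ∉ axes a b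
  · obtain ⟨c, hc, hax⟩ := hex
    obtain ⟨c₀, S, hN, -⟩ := T.exists_normal hc hax
    exact ⟨a, b, c₀, S, T, hN⟩
  exfalso
  push Not at hex
  set d₃ := a * b * a⁻¹ with hd₃
  let v : Fin 4 → Subgroup G := ![Subgroup.zpowers a, Subgroup.zpowers b, Subgroup.zpowers d₃,
    Subgroup.zpowers (a * d₃ * a⁻¹)]
  let Y := {K : Subgroup G // K ∈ Set.range v}
  have hord : ∀ k : Fin 4, ∃ d, orderOf d = 3 ∧ v k = Subgroup.zpowers d := by
    intro k
    fin_cases k
    exacts [⟨a, ha, rfl⟩, ⟨b, hb, rfl⟩, ⟨d₃, orderOf_conj_three a b hb, rfl⟩,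
      ⟨_, orderOf_conj_three a _ (orderOf_conj_three a b hb), rfl⟩]
  have hmove : ∀ (g : G) (y : Y), y.1.map (MulAut.conj g).toMonoidHom ∈ Set.range v := by
    rintro g ⟨_, k, rfl⟩
    obtain ⟨d, hd, hk⟩ := hord k
    obtain ⟨e, he, hx⟩ := hex _ (orderOf_conj_three g d hd)
    have hz : (v k).map (MulAut.conj g).toMonoidHom = Subgroup.zpowers e := by
      rw [hk, MonoidHom.map_zpowers]
      show Subgroup.zpowers (g * d * g⁻¹) = _
      rcases hx with hx | hx <;> rw [hx]
      exact Subgroup.zpowers_inv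
    rw [hz]
    rcases he with rfl | rfl | rfl | rfl
    exacts [⟨0, rfl⟩, ⟨1, rfl⟩, ⟨2, rfl⟩, ⟨3, rfl⟩]
  let f : G → Y → Y := fun g y => ⟨_, hmove g y⟩
  have hf : ∀ g h y, f (g * h) y = f g (f h y) := fun g h y => Subtype.ext (by
    show y.1.map _ = (y.1.map _).map _
    rw [Subgroup.map_map]
    congr 1
    ext x
    simp [mul_assoc])
  have hf1 : ∀ y, f 1 y = y := fun y => Subtype.ext (by
    show y.1.map _ = _
    convert Subgroup.map_id y.1
    ext x; simp)
  let φ : G →* Equiv.Perm Y := MonoidHom.mk' (fun g => ⟨f g, f g⁻¹,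
    fun y => by rw [← hf, inv_mul_cancel, hf1], fun y => by rw [← hf, mul_inv_cancel, hf1]⟩)
    fun g h => Equiv.ext (hf g h)
  haveI : Group.IsSolvable (G ⧸ φ.ker) := by
    haveI : Finite Y := (Set.finite_range v).to_subtype
    haveI := Fintype.ofFinite Y
    obtain ⟨emb⟩ : Nonempty (Y ↪ Fin 4) := ⟨⟨fun y => y.2.choose, fun y z e => by
      apply Subtype.ext
      rw [← y.2.choose_spec, ← z.2.choose_spec]
      exact congrArg v e⟩⟩
    haveI := CfsgLib.NumberTheory.SwapClosure.isSolvable_perm_fin_four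
    haveI : Group.IsSolvable (Equiv.Perm Y) :=
      Group.isSolvable_of_isSolvable_injective (Equiv.Perm.viaEmbeddingHom_injective emb)
    exact Group.isSolvable_of_isSolvable_injective (QuotientGroup.kerLift_injective φ)
  have hker := eq_top_of_solvable_quotient hperf φ.ker
  have ha1 : φ a = 1 := MonoidHom.mem_ker.mp (hker ▸ Subgroup.mem_top a)
  have hfix : (Subgroup.zpowers b).map (MulAut.conj a).toMonoidHom = Subgroup.zpowers b :=
    congrArg Subtype.val (Equiv.congr_fun ha1 (⟨_, 1, rfl⟩ : Y))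
  have hmem : d₃ ∈ Subgroup.zpowers b := hfix ▸ ⟨b, Subgroup.mem_zpowers b, rfl⟩
  have hU := T.U_third
  rw [← hd₃] at hU
  rw [(orderOf_pos_iff.mp (by rw [hb]; norm_num)).mem_zpowers_iff_mem_range_orderOf, hb,
    Finset.mem_image] at hmem
  obtain ⟨k, hk, hkd⟩ := hmem
  rw [Finset.mem_range] at hk
  interval_cases k
  · rw [pow_zero] at hkd
    exact absurd (orderOf_conj_three a b hb) (by rw [← hd₃, ← hkd, orderOf_one]; norm_num)
  · rw [pow_one] at hkd
    rw [← hkd] at hU
    have e := (T.inj (T.U_right.symm.trans hU)).2.1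
    have h2 : (2 : ℚ) • (1 : Kc ρ a b) = 0 := by linear_combination (norm := module) e
    exact two_ne_zero ((smul_eq_zero.mp h2).resolve_right one_ne_zero)
  · have e2 : b ^ 2 = b⁻¹ :=
      eq_inv_of_mul_eq_one_left (by rw [← pow_succ, show 2 + 1 = orderOf b from hb.symm, pow_orderOf_eq_one])
    rw [e2] at hkd
    rw [← hkd] at hU
    have e := (T.inj ((T.inv_E hb T.U_right).symm.trans hU)).2.2.1
    have h2 : (2 : ℚ) • (1 : Kc ρ a b) = 0 := by linear_combination (norm := module) e
    exact two_ne_zero ((smul_eq_zero.mp h2).resolve_right one_ne_zero)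

namespace Icos

variable {a b c : G} {S : Kc ρ a b} (D : Icos ρ a b c S)
include D

theorem det_redHom (g : D.gen) : (D.redHom g).det = 1 := by
  obtain ⟨g, hg⟩ := g
  refine Subgroup.closure_induction
    (p := fun x hx => (D.redHom ⟨x, hx⟩).det = 1) ?_ ?_ ?_ ?_ hg
  · intro x hx
    have h3 : orderOf x = 3 := by
      rcases hx with rfl | rfl | rfl
      exacts [D.pair.ha, D.pair.hb, D.normal.hc]
    have e : (D.redHom ⟨x, Subgroup.subset_closure hx⟩).det ^ 3 = 1 := by
      rw [← Matrix.det_pow, ← map_pow]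
      have : (⟨x, Subgroup.subset_closure hx⟩ : D.gen) ^ 3 = 1 :=
        Subtype.ext (by rw [Subgroup.coe_pow, ← h3, pow_orderOf_eq_one]; rfl)
      rw [this, map_one, Matrix.det_one]
    have key : ∀ y : ZMod 5, y ^ 3 = 1 → y = 1 := by decide
    exact key _ e
  · show (D.redHom 1).det = 1
    rw [map_one, Matrix.det_one]
  · intro x y hx hy ex ey
    show (D.redHom (⟨x, hx⟩ * ⟨y, hy⟩)).det = 1
    rw [map_mul, Matrix.det_mul, ex, ey, one_mul]
  · intro x hx ex
    show (D.redHom (⟨x, hx⟩ : D.gen)⁻¹).det = 1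
    have := congrArg (fun y => (D.redHom y).det) (inv_mul_cancel (⟨x, hx⟩ : D.gen))
    simp only [map_mul, Matrix.det_mul, map_one, Matrix.det_one] at this
    rwa [ex, mul_one] at this

/-- The reduction into `SL(2, 5)`. -/
noncomputable def redSL : D.gen →* Matrix.SpecialLinearGroup (Fin 2) (ZMod 5) :=
  MonoidHom.mk' (fun g => ⟨D.redHom g, D.det_redHom g⟩)
    fun x y => Subtype.ext (map_mul D.redHom x y)

theorem redSL_injective : Function.Injective D.redSL := fun _ _ h =>
  D.redHom_injective (congrArg Subtype.val h)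

theorem card_gen : Nat.card D.gen = 120 := by
  refine Nat.dvd_antisymm (card_sl_two_five ▸ Subgroup.card_dvd_of_injective _ D.redSL_injective) ?_
  have hma : a ∈ D.gen := Subgroup.subset_closure (by simp)
  have hmb : b ∈ D.gen := Subgroup.subset_closure (by simp)
  have hmc : c ∈ D.gen := Subgroup.subset_closure (by simp)
  have hd : ∀ x ∈ D.gen, orderOf x ∣ Nat.card D.gen := fun x hx =>
    Subgroup.orderOf_dvd_natCard D.gen hx
  have h3 : 3 ∣ Nat.card D.gen := D.pair.ha ▸ hd a hma
  have h10 : 10 ∣ Nat.card D.gen := by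
    have hS : ∀ q : ℚ, S ≠ q • 1 := fun q e => by
      have := D.normal.sq
      rw [e, smul_mul_smul_comm, one_mul] at this
      exact sq_ne_twenty (2 * q) (by linear_combination 4 * scal_inj this)
    have hd3 := orderOf_conj_three a b D.pair.hb
    have hσ : sigma ρ (a * b * a⁻¹) c = E ρ a b ((2 : ℚ) • S) 0 0 0 := by
      rw [D.pair.sigma_E D.pair.U_third D.normal.axis]
      congr 1 <;> simp only [phi, psi, mul_zero, zero_mul, mul_neg, neg_mul, mul_one, one_mul,
        neg_zero, add_zero, zero_add, zero_sub, sub_zero] <;> module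
    have hne : ∀ q : ℚ, sigma ρ (a * b * a⁻¹) c ≠ q • 1 := fun q hq => by
      rw [hσ, Pair.scalar_E (ρ := ρ) (a := a) (b := b)] at hq
      exact hS (q / 2) (by linear_combination (norm := module) (1 / 2 : ℚ) • (D.pair.inj hq).1)
    rcases sigma_table D.pair.fpf hd3 D.normal.hc with e | e | e | e | e
    · exact absurd e.2.2 (hne _)
    · exact absurd e.2.2 (hne _)
    · exact absurd e.2 (hne _)
    · exact absurd e.2 (hne _)
    · exact e.1 ▸ hd _ (mul_mem (mul_mem (mul_mem hma hmb) (inv_mem hma)) hmc)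
  have h8 : 8 ∣ Nat.card D.gen := by
    haveI : Fact (Nat.Prime 2) := ⟨Nat.prime_two⟩
    let u : D.gen := ⟨a * (a * b⁻¹) * a⁻¹,
      mul_mem (mul_mem hma (mul_mem hma (inv_mem hmb))) (inv_mem hma)⟩
    let w : D.gen := ⟨a * b⁻¹, mul_mem hma (inv_mem hmb)⟩
    have eu : ρ u = E ρ a b 0 (-1) 0 0 := D.pair.map_gi
    have ew : ρ w = E ρ a b 0 0 (-1) 0 := D.pair.map_gj
    have inj : ∀ x y : D.gen, ρ x = ρ y → x = y := fun x y h =>
      Subtype.ext (map_injective D.pair.fpf h)
    have hone : (1 : Matrix (Fin n) (Fin n) ℚ) = E ρ a b 1 0 0 0 := by rw [E, el_scalar]; rfl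
    have hu2 : ρ ((u * u : D.gen) : G) = E ρ a b (-1) 0 0 0 := by
      rw [Subgroup.coe_mul, map_mul, eu, D.pair.mul_E]
      congr 1 <;> simp
    have hw2 : u * u = w * w := inj _ _ (by
      rw [hu2, Subgroup.coe_mul, map_mul, ew, D.pair.mul_E]
      congr 1 <;> simp)
    have h21 : u ^ 2 ^ 1 ≠ 1 := by
      rw [pow_one, pow_two]
      intro e
      rw [e, Subgroup.coe_one, map_one, hone] at hu2
      have := (D.pair.inj hu2).1
      have h2 : (2 : ℚ) • (1 : Kc ρ a b) = 0 := by linear_combination (norm := module) this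
      exact two_ne_zero ((smul_eq_zero.mp h2).resolve_right one_ne_zero)
    have hu4 : u ^ 2 ^ (1 + 1) = 1 := by
      apply inj
      rw [show 2 ^ (1 + 1) = 2 + 2 from rfl, pow_add, pow_two, Subgroup.coe_mul, map_mul, hu2,
        D.pair.mul_E, Subgroup.coe_one, map_one, hone]
      congr 1 <;> simp
    have ou : orderOf u = 4 := orderOf_eq_prime_pow h21 hu4
    set U' := Subgroup.zpowers u with hU'
    set N := Subgroup.normalizer (U' : Set D.gen)
    have hconj : w * u * w⁻¹ = u⁻¹ := by
      rw [mul_inv_eq_iff_eq_mul]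
      rw [eq_inv_mul_iff_mul_eq]
      apply inj
      simp only [Subgroup.coe_mul, map_mul, eu, ew, D.pair.mul_E]
      congr 1 <;> simp
    have hwN : w ∈ N := by
      rw [Subgroup.mem_normalizer_iff_map_conj_eq, hU', MonoidHom.map_zpowers]
      show Subgroup.zpowers (w * u * w⁻¹) = _
      rw [hconj, Subgroup.zpowers_inv]
    have hwU : w ∉ U' := by
      intro hw
      obtain ⟨k, hk⟩ := Subgroup.mem_zpowers_iff.mp hw
      have hc : Commute w u := hk ▸ (Commute.refl u).zpow_left k
      rw [hc.eq, mul_inv_cancel_right, eq_inv_iff_mul_eq_one] at hconj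
      exact h21 (by rw [pow_one, pow_two, hconj])
    haveI : (U'.subgroupOf N).Normal := Subgroup.normal_in_normalizer
    let q : N ⧸ U'.subgroupOf N := QuotientGroup.mk ⟨w, hwN⟩
    have hq : orderOf q = 2 := by
      refine orderOf_eq_prime ?_ ?_
      · rw [← QuotientGroup.mk_pow, QuotientGroup.eq_one_iff, Subgroup.mem_subgroupOf]
        show ((⟨w, hwN⟩ : N) ^ 2 : N).1 ∈ U'
        rw [Subgroup.coe_pow, pow_two, ← hw2]
        exact mul_mem (Subgroup.mem_zpowers u) (Subgroup.mem_zpowers u)
      · intro e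
        exact hwU (Subgroup.mem_subgroupOf.mp ((QuotientGroup.eq_one_iff _).mp e))
    have h1 : 8 ∣ Nat.card N := by
      rw [Subgroup.card_eq_card_quotient_mul_card_subgroup (U'.subgroupOf N),
        Nat.card_congr (Subgroup.subgroupOfEquivOfLe (Subgroup.le_normalizer : U' ≤ N)).toEquiv,
        Nat.card_zpowers, ou]
      exact mul_dvd_mul_right (hq ▸ orderOf_dvd_natCard q) 4
    exact h1.trans (Subgroup.card_subgroup_dvd_card N)
  exact Nat.Coprime.mul_dvd_of_dvd_of_dvd (by norm_num : Nat.Coprime 24 5)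
    (Nat.Coprime.mul_dvd_of_dvd_of_dvd (by norm_num : Nat.Coprime 8 3) h8 h3)
    ((show 5 ∣ 10 by norm_num).trans h10)

theorem nonempty_equiv_gen : Nonempty (D.gen ≃* Matrix.SpecialLinearGroup (Fin 2) (ZMod 5)) :=
  ⟨MulEquiv.ofBijective D.redSL ((Nat.bijective_iff_injective_and_card _).mpr
    ⟨D.redSL_injective, D.card_gen.trans card_sl_two_five.symm⟩)⟩

theorem mem_gen_of_order_three {x : G} (hx : orderOf x = 3) : x ∈ D.gen := by
  rcases D.pair.good x hx with h | ⟨c₀, S', hN, h⟩
  · exact Subgroup.closure_mono (Set.insert_subset_insert (Set.singleton_subset_iff.mpr (by simp))) h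
  · rwa [(D.pair.normal_unique hN D.normal).1] at h

theorem gen_normal : D.gen.Normal := by
  refine ⟨fun x hx g => ?_⟩
  have : D.gen.map (MulAut.conj g).toMonoidHom ≤ D.gen := by
    rw [gen, MonoidHom.map_closure, Subgroup.closure_le]
    rintro _ ⟨y, hy, rfl⟩
    refine D.mem_gen_of_order_three (orderOf_conj_three g y ?_)
    rcases hy with rfl | rfl | rfl
    exacts [D.pair.ha, D.pair.hb, D.normal.hc]
  exact this ⟨x, hx, rfl⟩

theorem commute_of_commute_pair {h : G} (ha : Commute h a) (hb : Commute h b) : Commute h c := by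
  let H : Kc ρ a b := ⟨ρ h, D.commute_qi_qj ha hb⟩
  let H' : Kc ρ a b := ⟨ρ h⁻¹, D.commute_qi_qj ha.inv_left hb.inv_left⟩
  have hH : H' * H = 1 := Subtype.ext (by
    show ρ h⁻¹ * ρ h = 1; rw [← map_mul, inv_mul_cancel, map_one])
  have hH' : H * H' = 1 := Subtype.ext (by
    show ρ h * ρ h⁻¹ = 1; rw [← map_mul, mul_inv_cancel, map_one])
  have hN : IsNormal ρ a b (h * c * h⁻¹) (H * S * H') := by
    refine ⟨orderOf_conj_three h c D.normal.hc, ?_, ?_⟩
    · rw [show H * S * H' * (H * S * H') = H * (S * (H' * H) * S) * H' by noncomm_ring, hH,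
        mul_one, D.normal.sq, mul_smul_comm, mul_one, smul_mul_assoc, hH']
    · rw [U_conj, D.normal.axis]
      apply conj_of_mul_eq
      rw [show ρ h = E ρ a b H 0 0 0 from (by rw [E, el_scalar]), D.pair.mul_E, D.pair.mul_E]
      congr 1 <;> simp only [phi, psi, mul_zero, zero_mul, smul_zero, sub_zero, add_zero, zero_add,
        mul_smul_comm, smul_mul_assoc, mul_add, add_mul, mul_sub, sub_mul, mul_one, one_mul,
        mul_assoc, hH]
  exact mul_inv_eq_iff_eq_mul.mp (D.pair.normal_unique hN D.normal).1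

/-- A group generated by its elements of order three in this configuration is the whole group. -/
theorem gen_eq_top (hperf : commutator G = ⊤) : D.gen = ⊤ := by
  classical
  haveI := D.gen_normal
  set C := Subgroup.centralizer (D.gen : Set G) with hC
  have hCmem : ∀ x, x ∈ C ↔ Commute x a ∧ Commute x b := by
    refine fun x => ⟨fun hx => ⟨?_, ?_⟩, fun hx => ?_⟩
    · exact (hx a (Subgroup.subset_closure (by simp))).symm
    · exact (hx b (Subgroup.subset_closure (by simp))).symm
    · rw [hC, gen, Subgroup.centralizer_closure, Subgroup.mem_centralizer_iff]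
      rintro y (rfl | rfl | rfl)
      exacts [hx.1.symm.eq, hx.2.symm.eq, (D.commute_of_commute_pair hx.1 hx.2).symm.eq]
  have hX : Nat.card {x : G // orderOf x = 3} ≤ 20 := by
    obtain ⟨e⟩ := D.nonempty_equiv_gen
    rw [← card_order_three_sl_two_five]
    refine Nat.card_le_card_of_injective (fun x => ⟨e ⟨x.1, D.mem_gen_of_order_three x.2⟩, ?_, ?_⟩)
      fun x y h => Subtype.ext (congrArg Subtype.val (e.injective (congrArg Subtype.val h)) :)
    · rw [← map_pow, show (⟨x.1, D.mem_gen_of_order_three x.2⟩ : D.gen) ^ 3 = 1 from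
        Subtype.ext (by
          have := pow_orderOf_eq_one x.1
          rw [x.2] at this
          rw [Subgroup.coe_pow]; exact this), map_one]
    · intro h
      have hx2 := x.2
      rw [congrArg Subtype.val (e.map_eq_one_iff.mp h), Subgroup.coe_one, orderOf_one] at hx2
      omega
  have hidx : C.index ≤ 400 := by
    let f : G → {x : G // orderOf x = 3} × {x : G // orderOf x = 3} := fun g =>
      (⟨g * a * g⁻¹, orderOf_conj_three g a D.pair.ha⟩, ⟨g * b * g⁻¹, orderOf_conj_three g b D.pair.hb⟩)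
    have hinj : Function.Injective fun q : G ⧸ C => f q.out := by
      intro q r h
      obtain ⟨h1, h2⟩ := Prod.ext_iff.mp h
      have h1' : q.out * a * q.out⁻¹ = r.out * a * r.out⁻¹ := congrArg Subtype.val h1
      have h2' : q.out * b * q.out⁻¹ = r.out * b * r.out⁻¹ := congrArg Subtype.val h2
      rw [← q.out_eq', ← r.out_eq', QuotientGroup.eq, hCmem]
      constructor
      · show _ * _ = _ * _
        calc q.out⁻¹ * r.out * a = q.out⁻¹ * (r.out * a * r.out⁻¹) * r.out := by group
          _ = _ := by rw [← h1']; group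
      · show _ * _ = _ * _
        calc q.out⁻¹ * r.out * b = q.out⁻¹ * (r.out * b * r.out⁻¹) * r.out := by group
          _ = _ := by rw [← h2']; group
    calc C.index = Nat.card (G ⧸ C) := rfl
      _ ≤ Nat.card ({x : G // orderOf x = 3} × {x : G // orderOf x = 3}) :=
          Nat.card_le_card_of_injective _ hinj
      _ ≤ 20 * 20 := by rw [Nat.card_prod]; exact Nat.mul_le_mul hX hX
  have hrel : 60 ≤ C.relIndex D.gen := by
    have hsmall : Nat.card (C.subgroupOf D.gen) ≤ 2 := by
      have : ∀ x : C.subgroupOf D.gen, ρ ((x : D.gen) : G) = 1 ∨ ρ ((x : D.gen) : G) = -1 :=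
        fun x => D.eq_one_or_involution x.1.2 ((hCmem _).mp x.2).1 ((hCmem _).mp x.2).2
      calc Nat.card (C.subgroupOf D.gen) ≤ Nat.card Bool := by
            refine Nat.card_le_card_of_injective
              (fun x => decide (ρ ((x : D.gen) : G) = 1)) fun x y h => ?_
            apply Subtype.ext; apply Subtype.ext; apply map_injective D.pair.fpf
            have hiff := decide_eq_decide.mp h
            by_cases hx : ρ ((x : D.gen) : G) = 1
            · rw [hx, hiff.mp hx]
            · rw [(this x).resolve_left hx, (this y).resolve_left fun e => hx (hiff.mpr e)]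
        _ = 2 := Nat.card_eq_two_iff.mpr ⟨true, false, by simp, by ext x; cases x <;> simp⟩
    have hm := Subgroup.card_mul_index (C.subgroupOf D.gen)
    rw [D.card_gen] at hm
    have : C.relIndex D.gen = (C.subgroupOf D.gen).index := rfl
    nlinarith
  have hN : D.gen ⊔ C = ⊤ := by
    haveI : Group.IsSolvable (G ⧸ (D.gen ⊔ C)) := by
      refine isSolvable_of_card_le_six ?_
      show (D.gen ⊔ C).index ≤ 6
      have h1 := Subgroup.relIndex_mul_index (le_sup_right : C ≤ D.gen ⊔ C)
      have h2 : C.relIndex D.gen ≤ C.relIndex (D.gen ⊔ C) :=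
        Subgroup.relIndex_le_of_le_right le_sup_left Subgroup.index_ne_zero_of_finite
      have h3 : 60 * (D.gen ⊔ C).index ≤ 400 :=
        (Nat.mul_le_mul_right _ (hrel.trans h2)).trans (h1.le.trans hidx)
      omega
    exact eq_top_of_solvable_quotient hperf _
  haveI : IsZGroup C := ⟨fun p hp P => by
    haveI := Fact.mk hp
    have hPG : IsPGroup p ((P : Subgroup C).map C.subtype) := P.2.map _
    let e := ((P : Subgroup C).equivMapOfInjective C.subtype C.subtype_injective)
    rcases cyclic_or_quaternion D.pair.fpf hPG with hc | ⟨rfl, k, ⟨e'⟩⟩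
    · exact isCyclic_of_surjective e.symm.toMonoidHom e.symm.surjective
    exfalso
    set h := (e'.symm (QuaternionGroup.xa 0) : G) with hh
    have h4 : orderOf h = 4 := by
      rw [hh, Subgroup.orderOf_coe, MulEquiv.orderOf_eq, QuaternionGroup.orderOf_xa]
    obtain ⟨hca, hcb⟩ := (hCmem h).mp (Subgroup.map_subtype_le _ (e'.symm _).2)
    let H : Kc ρ a b := ⟨ρ h, D.commute_qi_qj hca hcb⟩
    have hh2 : ρ (h * h) = -1 := by
      refine map_involution D.pair.fpf ?_ ?_
      · rw [← pow_two, ← pow_two, ← pow_mul, show 2 * 2 = orderOf h from h4.symm, pow_orderOf_eq_one]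
      · rw [← pow_two]
        exact pow_ne_one_of_lt_orderOf two_ne_zero (by rw [h4]; norm_num)
    set w := a * (a * b⁻¹) * a⁻¹ * h with hwdef
    have hρw : ρ w = E ρ a b 0 (-H) 0 0 := by
      rw [hwdef, map_mul, D.pair.map_gi, show ρ h = E ρ a b H 0 0 0 from (by rw [E, el_scalar]),
        D.pair.mul_E]
      congr 1 <;> simp
    have hHH : H * H = -1 := Subtype.ext (by show ρ h * ρ h = _; rw [← map_mul, hh2]; rfl)
    have hone : (1 : Matrix (Fin n) (Fin n) ℚ) = E ρ a b 1 0 0 0 := by rw [E, el_scalar]; rfl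
    have hw2 : w * w = 1 := map_injective D.pair.fpf (by
      rw [map_mul, hρw, D.pair.mul_E, map_one, hone]
      congr 1 <;> simp [hHH])
    by_cases hw1 : w = 1
    · rw [hw1, map_one, hone] at hρw
      exact one_ne_zero (D.pair.inj hρw).1
    · rw [map_involution D.pair.fpf hw2 hw1, hone, Pair.neg_E] at hρw
      exact neg_ne_zero.mpr one_ne_zero (D.pair.inj hρw).1⟩
  haveI : Group.IsSolvable (G ⧸ D.gen) := by
    refine Group.isSolvable_of_surjective
      (f := (QuotientGroup.mk' D.gen).comp C.subtype) fun q => ?_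
    obtain ⟨g, rfl⟩ := QuotientGroup.mk'_surjective D.gen q
    obtain ⟨x, hx, y, hy, rfl⟩ := Subgroup.mem_sup_of_normal_left.mp (hN ▸ Subgroup.mem_top g)
    refine ⟨⟨y, hy⟩, ?_⟩
    rw [map_mul, show QuotientGroup.mk' D.gen x = 1 from (QuotientGroup.eq_one_iff x).mpr hx, one_mul]
    rfl
  exact eq_top_of_solvable_quotient hperf _

end Icos

/-- Zassenhaus: a perfect fixed-point-free linear group is `SL(2, 5)`. -/
theorem nonempty_equiv_of_perfect [Nontrivial G] (hρ : ∀ g : G, g ≠ 1 → IsUnit (ρ g - 1))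
    (hperf : commutator G = ⊤) : Nonempty (G ≃* Matrix.SpecialLinearGroup (Fin 2) (ZMod 5)) := by
  obtain ⟨a, b, c, S, D⟩ := exists_icos hρ hperf
  obtain ⟨e⟩ := D.nonempty_equiv_gen
  exact ⟨(Subgroup.topEquiv.symm.trans (MulEquiv.subgroupCongr (D.gen_eq_top hperf).symm)).trans e⟩

end CfsgLib.Perm.Zassenhaus
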