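import Cfsg.Agent.Lib.Perm.Zassenhaus.Regular

/-!
# The three non-solvable regular linear groups
-/

set_option autoImplicit false

namespace CfsgLib.Perm.Zassenhaus.Regular

open CfsgLib.Recognition.NearField CfsgLib.Perm.RegularLinear CfsgLib.Recognition.Zassenhaus

set_option synthInstance.maxSize 2048 in
theorem arith_small : ∀ f : Fin 4, ∀ p : Fin 120, ∀ i : Fin 3,
    0 < f.val → 0 < i.val → 7 ≤ p.val → (p.val = 7 ∨ p.val % 7 ≠ 0) →
    p.val ^ f.val + 1 ≤ 120 * f.val →
    ((p.val ^ f.val) ^ 2 - 1) % (120 * i.val) = 0 →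
    Nat.gcd (((p.val ^ f.val) ^ 2 - 1) / (120 * i.val)) 30 = 1 →
    ((p.val ^ f.val) ^ 2 - 1) / (120 * i.val) ≤
      f.val * Nat.gcd (((p.val ^ f.val) ^ 2 - 1) / (120 * i.val)) (p.val ^ f.val - 1) →
    f.val = 1 ∧ i.val = 1 ∧ (p.val = 11 ∨ p.val = 29 ∨ p.val = 59) := by
  decide +kernel

theorem pow_seven_gt : ∀ f : ℕ, 4 ≤ f → 120 * f < 7 ^ f := by
  intro f hf
  induction f, hf using Nat.le_induction with
  | base => norm_num
  | succ f hf ih => rw [pow_succ]; omega

/-- The numerical solutions. -/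
theorem arith {p f k m o i : ℕ} (hp : p.Prime) (hf : 0 < f) (hk : 2 ≤ k) (hi : i = 1 ∨ i = 2)
    (hm : m.Coprime 30) (hom : o ∣ m) (hoq : o ∣ p ^ f - 1) (hmo : m ≤ o * f)
    (heq : (p ^ f) ^ k - 1 = i * (120 * m)) :
    i = 1 ∧ f = 1 ∧ k = 2 ∧ ((p = 11 ∧ m = 1) ∨ (p = 29 ∧ m = 7) ∨ (p = 59 ∧ m = 29)) := by
  have hm0 : 0 < m := by
    rcases Nat.eq_zero_or_pos m with rfl | h
    · norm_num at hm
    · exact h
  have ho0 : 0 < o := Nat.pos_of_dvd_of_pos hom hm0
  have h30 : 30 ∣ (p ^ f) ^ k - 1 := heq ▸ Dvd.dvd.mul_left (Dvd.dvd.mul_right (by norm_num) m) i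
  have hN : 0 < (p ^ f) ^ k - 1 := by
    rw [heq]; rcases hi with rfl | rfl <;> positivity
  have hcop : (p ^ f) ^ k - 1 + 1 = (p ^ f) ^ k := by omega
  have hpd : p ∣ (p ^ f) ^ k := by rw [← pow_mul]; exact dvd_pow_self p (by positivity)
  have hp30 : ¬ p ∣ 30 := fun h => by
    have h1 : p ∣ (p ^ f) ^ k - 1 := h.trans h30
    exact hp.not_dvd_one ((Nat.dvd_add_right h1).mp (hcop ▸ hpd))
  have hp7 : 7 ≤ p := by
    by_contra hlt
    have h2 := hp.two_le
    interval_cases p <;> first | (norm_num at hp; done) | exact hp30 (by norm_num)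
  set q := p ^ f with hq
  have hpq : p ≤ q := Nat.le_self_pow hf.ne' p
  have hodd : Odd q := (hp.odd_of_ne_two (by omega)).pow
  have ho2 : 2 * o ≤ q - 1 := by
    refine Nat.le_of_dvd (by omega) ((Nat.Coprime.mul_dvd_of_dvd_of_dvd ?_ ?_ hoq))
    · exact ((hm.coprime_dvd_left hom).coprime_dvd_right (by norm_num : 2 ∣ 30)).symm
    · obtain ⟨t, ht⟩ := hodd; omega
  have hbound : q ^ k - 1 ≤ 120 * f * (q - 1) := by
    rw [heq]
    calc i * (120 * m) ≤ 2 * (120 * (o * f)) :=
          Nat.mul_le_mul (by omega) (Nat.mul_le_mul_left _ hmo)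
      _ = 120 * f * (2 * o) := by ring
      _ ≤ _ := Nat.mul_le_mul_left _ ho2
  have hq2 : q + 1 ≤ 120 * f := by
    by_contra hlt
    push Not at hlt
    have h2 : q ^ 2 ≤ q ^ k := Nat.pow_le_pow_right (by omega) hk
    obtain ⟨r, hr⟩ : ∃ r, q = r + 1 := ⟨q - 1, by omega⟩
    rw [hr] at hbound h2 hlt hpq
    simp only [Nat.add_sub_cancel] at hbound
    have h3 : (r + 1) ^ 2 - 1 = (r + 2) * r := by
      rw [Nat.sub_eq_iff_eq_add (Nat.one_le_pow _ _ (by omega))]; ring
    have h4 : (r + 2) * r ≤ 120 * f * r := by omega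
    have := Nat.le_of_mul_le_mul_right h4 (by omega)
    omega
  have hf3 : f ≤ 3 := by
    by_contra h4
    have h1 := pow_seven_gt f (by omega)
    have h2 : 7 ^ f ≤ q := Nat.pow_le_pow_left hp7 f
    omega
  have hk2 : k = 2 := by
    by_contra hk2
    have h3 : q ^ 3 ≤ q ^ k := Nat.pow_le_pow_right (by omega) (by omega)
    have h18 : q ≤ 18 := by
      by_contra hlt
      push Not at hlt
      obtain ⟨r, hr⟩ : ∃ r, q = r + 1 := ⟨q - 1, by omega⟩
      rw [hr] at hbound h3 hlt
      simp only [Nat.add_sub_cancel] at hbound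
      have e : (r + 1) ^ 3 - 1 = (r * r + 3 * r + 3) * r := by
        rw [Nat.sub_eq_iff_eq_add (Nat.one_le_pow _ _ (by omega))]; ring
      have h4 : (r * r + 3 * r + 3) * r ≤ 120 * f * r := by omega
      have := Nat.le_of_mul_le_mul_right h4 (by omega)
      nlinarith
    have hf1 : f = 1 := by
      by_contra hne
      have : 7 ^ 2 ≤ q := (Nat.pow_le_pow_left hp7 2).trans (Nat.pow_le_pow_right hp.pos (by omega))
      omega
    subst hf1
    rw [pow_one] at hq
    rw [hq] at hbound h18 heq hoq ho2 hq2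
    have hp10 : p ≤ 10 := by
      by_contra hlt
      push Not at hlt
      obtain ⟨r, rfl⟩ : ∃ r, p = r + 1 := ⟨p - 1, by omega⟩
      have h3' : (r + 1) ^ 3 ≤ (r + 1) ^ k := Nat.pow_le_pow_right (by omega) (by omega)
      simp only [Nat.add_sub_cancel, mul_one] at hbound
      have e : (r + 1) ^ 3 - 1 = (r * r + 3 * r + 3) * r := by
        rw [Nat.sub_eq_iff_eq_add (Nat.one_le_pow _ _ (by omega))]; ring
      have h4 : (r * r + 3 * r + 3) * r ≤ 120 * r := by omega
      have := Nat.le_of_mul_le_mul_right h4 (by omega)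
      nlinarith
    have h7 : p = 7 := by
      interval_cases p <;> first | rfl | (norm_num at hp; done)
    subst h7
    have hk4 : k ≤ 3 := by
      by_contra hk4
      have h4 : 7 ^ 4 ≤ 7 ^ k := Nat.pow_le_pow_right (by norm_num) (by omega)
      norm_num at hbound h4 ⊢
      omega
    obtain rfl : k = 3 := by omega
    norm_num at heq
    rcases hi with rfl | rfl <;> omega
  subst hk2
  have hp120 : p < 120 := by
    rcases Nat.lt_or_ge f 2 with hf2 | hf2
    · obtain rfl : f = 1 := by omega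
      rw [pow_one] at hq
      omega
    · have : p * p ≤ q := by
        rw [← pow_two]; exact Nat.pow_le_pow_right hp.pos hf2
      nlinarith
  have hp77 : p = 7 ∨ p % 7 ≠ 0 := by
    by_cases h : p % 7 = 0
    · exact Or.inl ((Nat.prime_dvd_prime_iff_eq (by norm_num) hp).mp (Nat.dvd_of_mod_eq_zero h)).symm
    · exact Or.inr h
  have hdiv : q ^ 2 - 1 = 120 * i * m := by rw [heq]; ring
  have hi0 : 0 < i := by omega
  have hquot : (q ^ 2 - 1) / (120 * i) = m := by
    rw [hdiv, Nat.mul_div_cancel_left _ (by omega)]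
  have := arith_small ⟨f, by omega⟩ ⟨p, hp120⟩ ⟨i, by omega⟩ hf hi0 hp7 hp77 hq2
    (by show (q ^ 2 - 1) % (120 * i) = 0; rw [hdiv]; exact Nat.mul_mod_right _ _)
    (by show Nat.gcd ((q ^ 2 - 1) / (120 * i)) 30 = 1; rw [hquot]; exact hm)
    (by
      show (q ^ 2 - 1) / (120 * i) ≤ f * Nat.gcd ((q ^ 2 - 1) / (120 * i)) (q - 1)
      rw [hquot]
      calc m ≤ o * f := hmo
        _ = f * o := mul_comm _ _
        _ ≤ _ := Nat.mul_le_mul_left _ (Nat.le_of_dvd (Nat.gcd_pos_of_pos_left _ hm0) (Nat.dvd_gcd hom hoq)))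
  obtain ⟨hf1, hi1, hp3⟩ := this
  simp only at hf1 hi1 hp3
  subst hf1 hi1
  rw [pow_one] at hq
  refine ⟨rfl, rfl, rfl, ?_⟩
  rw [hq] at hquot
  rcases hp3 with rfl | rfl | rfl <;> norm_num at hquot <;> omega

variable {p : ℕ} [Fact p.Prime] {V : Type*} [AddCommGroup V] [Module (ZMod p) V] [Finite V]

/-- The classification of the non-solvable regular linear groups. -/
theorem classify (H : Subgroup (V ≃ₗ[ZMod p] V))
    (hreg : ∀ v w : V, v ≠ 0 → w ≠ 0 → ∃! h : H, (h : V ≃ₗ[ZMod p] V) v = w)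
    (hsolv : ¬ Group.IsSolvable H) :
    (Nat.card V = 121 ∧ Nonempty (H ≃* Matrix.SpecialLinearGroup (Fin 2) (ZMod 5))) ∨
      (Nat.card V = 841 ∧
        Nonempty (H ≃* Matrix.SpecialLinearGroup (Fin 2) (ZMod 5) × Multiplicative (ZMod 7))) ∨
      (Nat.card V = 3481 ∧
        Nonempty (H ≃* Matrix.SpecialLinearGroup (Fin 2) (ZMod 5) × Multiplicative (ZMod 29))) := by
  classical
  haveI := finite_aut (p := p) (V := V)
  haveI : Nontrivial V := by
    by_contra hV
    rw [not_nontrivial_iff_subsingleton] at hV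
    haveI : Subsingleton H := ⟨fun a b => Subtype.ext (LinearEquiv.ext fun v => Subsingleton.elim _ _)⟩
    exact hsolv inferInstance
  have h := fpf hreg
  obtain ⟨K, M, hKn, hMn, ⟨c⟩, hcomm, hint, h30, hsyl, hidx⟩ := structure_of_rep h hsolv
  haveI := hKn
  haveI := hMn
  haveI : IsZGroup M := ⟨fun q hq P => by haveI := Fact.mk hq; exact hsyl q P⟩
  obtain ⟨eK⟩ := c.equiv_sl25
  -- the direct product
  let ψ : K × M →* H := K.subtype.noncommCoprod M.subtype fun s x => hcomm s s.2 x x.2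
  have hψi : Function.Injective ψ := by
    rw [injective_iff_map_eq_one]
    rintro ⟨s, x⟩ e
    have e' : (s : H) * x = 1 := e
    have hs : (s : H) ∈ K ⊓ M :=
      ⟨s.2, by rw [eq_inv_of_mul_eq_one_left e']; exact Subgroup.inv_mem M x.2⟩
    rw [hint, Subgroup.mem_bot] at hs
    rw [hs, one_mul] at e'
    exact Prod.ext (Subtype.ext hs) (Subtype.ext e')
  have hψr : ψ.range = K ⊔ M := by
    ext g
    rw [Subgroup.mem_sup_of_normal_left, MonoidHom.mem_range]
    constructor
    · rintro ⟨⟨s, x⟩, rfl⟩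
      exact ⟨s, s.2, x, x.2, rfl⟩
    · rintro ⟨s, hs, x, hx, rfl⟩
      exact ⟨(⟨s, hs⟩, ⟨x, hx⟩), rfl⟩
  have hKM : Nat.card (K ⊔ M : Subgroup H) = 120 * Nat.card M := by
    rw [← hψr, ← Nat.card_congr (MonoidHom.ofInjective hψi).toEquiv, Nat.card_prod, c.card]
  have hH : Nat.card H = (K ⊔ M).index * (120 * Nat.card M) := by
    rw [← hKM, mul_comm]; exact ((K ⊔ M).card_mul_index).symm
  -- the cyclic normal subgroup
  haveI : (⁅M, M⁆ : Subgroup H).Normal := Subgroup.commutator_normal M M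
  set A : Subgroup H := M ⊓ Subgroup.centralizer ((⁅M, M⁆ : Subgroup H) : Set H) with hA
  haveI : A.Normal := Subgroup.normal_inf_normal M _
  haveI : IsZGroup A := IsZGroup.of_injective (Subgroup.inclusion_injective (inf_le_left : A ≤ M))
  let F : A →* Abelianization M := Abelianization.of.comp (Subgroup.inclusion inf_le_left)
  have hAc : ∀ x y : A, x * y = y * x := by
    refine commutative_of_cyclic_center_quotient F ?_
    intro x hx
    rw [MonoidHom.mem_ker, MonoidHom.comp_apply, ← MonoidHom.mem_ker, Abelianization.ker_of] at hx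
    have hx' : (x : H) ∈ (⁅M, M⁆ : Subgroup H) := by
      rw [← Subgroup.map_subtype_commutator]
      exact ⟨_, hx, rfl⟩
    rw [Subgroup.mem_center_iff]
    intro y
    exact Subtype.ext (y.2.2 x hx').symm
  haveI : IsCyclic A := by
    haveI : IsMulCommutative A := ⟨⟨hAc⟩⟩
    haveI : Group.IsNilpotent A := by
      letI : CommGroup A := { (inferInstance : Group A) with mul_comm := hAc }
      exact CommGroup.isNilpotent
    infer_instance
  obtain ⟨⟨a, haA⟩, hgen⟩ := IsCyclic.exists_generator (α := A)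
  have hz : Subgroup.zpowers a = A := by
    refine le_antisymm (Subgroup.zpowers_le.mpr haA) fun x hx => ?_
    obtain ⟨s, hs⟩ := Subgroup.mem_zpowers_iff.mp (hgen ⟨x, hx⟩)
    exact Subgroup.mem_zpowers_iff.mpr ⟨s, congrArg Subtype.val hs⟩
  have hnorm : ∀ g : H, g * a * g⁻¹ ∈ Subgroup.zpowers a := fun g => by
    rw [hz]; exact Subgroup.Normal.conj_mem inferInstance a haA g
  have hnc : ∃ s t : H, Commute s a ∧ Commute t a ∧ ¬ Commute s t := by
    by_contra hno
    push Not at hno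
    apply sl25_not_solvable
    haveI : Group.IsSolvable K := Group.isSolvable_of_comm fun s t => Subtype.ext
      (hno s t (hcomm s s.2 a haA.1) (hcomm t t.2 a haA.1))
    exact Group.isSolvable_of_surjective (f := eK.toMonoidHom) eK.surjective
  have htr : ∀ v w : V, v ≠ 0 → w ≠ 0 → ∃ g : H, rep H g v = w := fun v w hv hw => by
    obtain ⟨g, hg, -⟩ := hreg v w hv hw
    exact ⟨g, hg⟩
  obtain ⟨f, k, hf, hk, hcardV, hoq, hconj⟩ := field_bound h htr hnorm hnc
  -- the index of `A` in `M`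
  have hmo : Nat.card M ≤ orderOf a * f := by
    set A' : Subgroup M := A.subgroupOf M
    have hinj : Function.Injective fun q : M ⧸ A' =>
        (⟨(q.out : H) * a * (q.out : H)⁻¹, isConj_iff.mpr ⟨q.out, rfl⟩⟩ : conjugatesOf a) := by
      intro q r e
      have e' : (q.out : H) * a * (q.out : H)⁻¹ = (r.out : H) * a * (r.out : H)⁻¹ :=
        congrArg Subtype.val e
      rw [← q.out_eq', ← r.out_eq', QuotientGroup.eq, Subgroup.mem_subgroupOf]
      refine ⟨(q.out⁻¹ * r.out).2, Subgroup.mem_centralizer_iff.mpr fun y hy => ?_⟩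
      have hyA : y ∈ A := ⟨Subgroup.commutator_le_self M hy, Subgroup.mem_centralizer_iff.mpr fun z hz => ?_⟩
      · rw [← hz] at hyA
        have hc : Commute ((q.out⁻¹ * r.out : M) : H) a := by
          show _ * _ = _ * _
          rw [Subgroup.coe_mul, Subgroup.coe_inv]
          calc (q.out : H)⁻¹ * r.out * a = (q.out : H)⁻¹ * ((r.out : H) * a * (r.out : H)⁻¹) * r.out := by group
            _ = _ := by rw [← e']; group
        obtain ⟨s, rfl⟩ := Subgroup.mem_zpowers_iff.mp hyA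
        exact (hc.zpow_right s).eq.symm
      · haveI : IsMulCommutative (⁅M, M⁆ : Subgroup H) := by
          rw [← Subgroup.map_subtype_commutator]
          haveI : IsCyclic (_root_.commutator M) := IsZGroup.isCyclic_commutator _
          infer_instance
        exact congrArg Subtype.val (mul_comm' (⟨z, hz⟩ : (⁅M, M⁆ : Subgroup H)) ⟨y, hy⟩)
    haveI : Finite (conjugatesOf a) := inferInstance
    calc Nat.card M = Nat.card A' * A'.index := (A'.card_mul_index).symm
      _ ≤ orderOf a * f := Nat.mul_le_mul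
          (by rw [← Nat.card_zpowers, hz]; exact Nat.card_congr (Subgroup.subgroupOfEquivOfLe inf_le_left).toEquiv |>.le)
          ((Nat.card_le_card_of_injective _ hinj).trans hconj)
  have heq : (p ^ f) ^ k - 1 = (K ⊔ M).index * (120 * Nat.card M) := by
    rw [← hcardV, ← hH]; exact (card_eq hreg).symm
  have hoM : orderOf a ∣ Nat.card M := Subgroup.orderOf_dvd_natCard M haA.1
  obtain ⟨hi, hf1, hk2, hcase⟩ := arith (Fact.out : p.Prime) hf hk hidx h30 hoM hoq hmo heq
  subst hf1 hk2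
  have htop : K ⊔ M = ⊤ := Subgroup.index_eq_one.mp hi
  let eH : H ≃* K × M := (Subgroup.topEquiv.symm.trans (MulEquiv.subgroupCongr (htop.symm.trans hψr.symm))).trans
    (MonoidHom.ofInjective hψi).symm
  have hMA : M = A := by
    refine (Subgroup.eq_of_le_of_card_ge inf_le_left ?_).symm
    change Nat.card M ≤ Nat.card A
    rw [← hz, Nat.card_zpowers]
    simpa using hmo
  haveI : IsCyclic M := hMA ▸ inferInstance
  rw [pow_one] at hcardV
  rcases hcase with ⟨rfl, hm⟩ | ⟨rfl, hm⟩ | ⟨rfl, hm⟩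
  · left
    refine ⟨by rw [hcardV]; norm_num, ⟨?_⟩⟩
    haveI := (Nat.card_eq_one_iff_unique.mp hm).1
    haveI : Unique M := uniqueOfSubsingleton 1
    exact (eH.trans MulEquiv.prodUnique).trans eK
  · right; left
    exact ⟨by rw [hcardV]; norm_num, ⟨eH.trans (eK.prodCongr (mulEquivOfCyclicCardEq (by rw [hm]; simp)))⟩⟩
  · right; right
    exact ⟨by rw [hcardV]; norm_num, ⟨eH.trans (eK.prodCongr (mulEquivOfCyclicCardEq (by rw [hm]; simp)))⟩⟩

end CfsgLib.Perm.Zassenhaus.Regular
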