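import Cfsg.Agent.Lib.Perm.Zassenhaus.Lift
import Cfsg.Agent.Lib.Perm.Zassenhaus.Main
import Cfsg.Agent.Lib.Solvable.FixedPointFreeComplement
import Cfsg.Agent.Lib.FrobRealize.FixedPointFree

/-!
# Perfect groups of fixed-point-free automorphisms
-/

set_option autoImplicit false

namespace CfsgLib.Perm.Zassenhaus

open SemidirectProduct

/-- An additive action on a module over the prime field is linear. -/
def linearLift (p : ℕ) {V : Type*} [AddCommGroup V] [Module (ZMod p) V] {G : Type*} [Group G]
    (f : G →* AddMonoid.End V) : G →* Module.End (ZMod p) V where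
  toFun g := AddMonoidHom.toZModLinearMap p (f g)
  map_one' := LinearMap.ext fun v => by
    show f 1 v = v
    rw [map_one]; rfl
  map_mul' a b := LinearMap.ext fun v => by
    show f (a * b) v = f a (f b v)
    rw [map_mul]; rfl

/-- A perfect nontrivial group acting fixed-point-freely on a nontrivial group is `SL(2, 5)`. -/
theorem nonempty_equiv_of_action {G K : Type*} [Group G] [Finite G] [Nontrivial G] [Group K]
    [Finite K] [Nontrivial K] (φ : G →* MulAut K) (hfpf : ∀ g : G, g ≠ 1 → ∀ k : K, φ g k = k → k = 1)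
    (hperf : commutator G = ⊤) :
    Nonempty (G ≃* Matrix.SpecialLinearGroup (Fin 2) (ZMod 5)) := by
  classical
  haveI : Finite (K ⋊[φ] G) := Finite.of_equiv _ SemidirectProduct.equivProd.symm
  set N : Subgroup (K ⋊[φ] G) := (inl : K →* K ⋊[φ] G).range with hNdef
  set A : Subgroup (K ⋊[φ] G) := (inr : G →* K ⋊[φ] G).range with hAdef
  haveI : N.Normal := by
    rw [hNdef, range_inl_eq_ker_rightHom]; infer_instance
  have hN : N ≠ ⊥ := by
    obtain ⟨k, hk⟩ := exists_ne (1 : K)
    intro h
    have : (inl k : K ⋊[φ] G) ∈ N := ⟨k, rfl⟩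
    rw [h, Subgroup.mem_bot] at this
    exact hk (inl_injective (by rw [this, map_one]))
  have hAN : A ≤ Subgroup.normalizer (N : Set (K ⋊[φ] G)) := by
    rw [Subgroup.normalizer_eq_top]; exact le_top
  have hF : ∀ a ∈ A, a ≠ 1 → N ⊓ Subgroup.centralizer {a} = ⊥ := by
    rintro _ ⟨g, rfl⟩ hg1
    rw [eq_bot_iff]
    rintro _ ⟨⟨k, rfl⟩, hc⟩
    have e : inr g * (inl k : K ⋊[φ] G) = inl k * inr g :=
      Subgroup.mem_centralizer_iff.mp hc (inr g) rfl
    have h : φ g k = k := by
      apply inl_injective (φ := φ)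
      rw [inl_aut, e, map_inv, mul_inv_cancel_right]
    rw [Subgroup.mem_bot, hfpf g (fun h => hg1 (by rw [h, map_one])) k h, map_one]
  let e : G ≃* A := MonoidHom.ofInjective inr_injective
  have hcardA : Nat.card A = Nat.card G := (Nat.card_congr e.toEquiv).symm
  have hcardN : Nat.card N = Nat.card K :=
    (Nat.card_congr (MonoidHom.ofInjective (inl_injective (φ := φ))).toEquiv).symm
  have hcop := CfsgLib.FrobRealize.FPF.coprime_card hAN hF
  rw [hcardA, hcardN] at hcop
  have heven : 2 ∣ Nat.card A := by
    rw [hcardA]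
    by_contra h2
    have hz : IsZGroup A := ⟨fun p hp P => by
      haveI := Fact.mk hp
      rcases CfsgLib.FrobRealize.FPF.sylow_cyclic_or_quaternion hN hAN hF P with hc | ⟨rfl, k, ⟨e'⟩⟩
      · exact hc
      · exfalso
        apply h2
        rw [← hcardA]
        refine dvd_trans ?_ (Subgroup.card_subgroup_dvd_card (P : Subgroup A))
        rw [Nat.card_congr e'.toEquiv, Nat.card_eq_fintype_card, QuaternionGroup.card]
        exact dvd_mul_of_dvd_left (by norm_num) _⟩
    haveI : Group.IsSolvable G :=
      Group.isSolvable_of_surjective (f := e.symm.toMonoidHom) e.symm.surjective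
    exact (Group.IsSolvable.commutator_lt_top_of_nontrivial (G := G)).ne hperf
  obtain ⟨-, hcomm⟩ := CfsgLib.Solvable.FPF.even_order N A hN hF heven
  haveI hKc : IsMulCommutative K := ⟨⟨fun x y => inl_injective (φ := φ) (by
    rw [map_mul, map_mul]
    exact congrArg Subtype.val
      (mul_comm' (⟨inl x, x, rfl⟩ : N) ⟨inl y, y, rfl⟩))⟩⟩
  obtain ⟨p, hp, hpd⟩ := Nat.exists_prime_and_dvd (n := Nat.card K)
    (Finite.one_lt_card (α := K)).ne'
  haveI := Fact.mk hp
  let V : Subgroup K :=
    { carrier := {x | x ^ p = 1}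
      one_mem' := one_pow p
      mul_mem' := fun {a b} ha hb => by
        show (a * b) ^ p = 1
        rw [Commute.mul_pow (mul_comm' a b), ha, hb, one_mul]
      inv_mem' := fun {a} ha => by show a⁻¹ ^ p = 1; rw [inv_pow, ha, inv_one] }
  letI : CommGroup V := { (inferInstance : Group V) with mul_comm := fun a b => mul_comm' a b }
  have hV : ∀ x : Additive V, p • x = 0 := fun x => by
    apply Additive.toMul.injective
    rw [toMul_nsmul, toMul_zero]
    exact Subtype.ext (by rw [SubmonoidClass.coe_pow]; exact (Additive.toMul x).2)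
  letI : Module (ZMod p) (Additive V) := AddCommGroup.zmodModule hV
  have hmem : ∀ (g : G) (v : V), φ g v ∈ V := fun g v => by
    show φ g v ^ p = 1
    rw [← map_pow, show (v : K) ^ p = 1 from v.2, map_one]
  let ψ : G → (V →* V) := fun g =>
    MonoidHom.mk' (fun v => ⟨φ g v, hmem g v⟩) fun a b => Subtype.ext (map_mul (φ g) (a : K) b)
  let f : G →* AddMonoid.End (Additive V) :=
    { toFun := fun g => MonoidHom.toAdditive (ψ g)
      map_one' := AddMonoidHom.ext fun v => Additive.toMul.injective (Subtype.ext (by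
        show φ 1 ((Additive.toMul v : V) : K) = ((Additive.toMul v : V) : K)
        rw [map_one, MulAut.one_apply]))
      map_mul' := fun a b => AddMonoidHom.ext fun v => Additive.toMul.injective (Subtype.ext (by
        show φ (a * b) ((Additive.toMul v : V) : K) = φ a (φ b ((Additive.toMul v : V) : K))
        rw [map_mul]; rfl)) }
  let σ := linearLift p f
  haveI : Nontrivial (Additive V) := by
    obtain ⟨u, hu⟩ := exists_prime_orderOf_dvd_card' p hpd
    refine ⟨Additive.ofMul ⟨u, by show u ^ p = 1; rw [← hu, pow_orderOf_eq_one]⟩, 0, fun h0 => ?_⟩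
    have := congrArg (fun y : Additive V => ((Additive.toMul y : V) : K)) h0
    simp only [toMul_ofMul, toMul_zero, OneMemClass.coe_one] at this
    rw [this, orderOf_one] at hu
    exact hp.one_lt.ne hu
  obtain ⟨n, ρ, hn, hρ⟩ := exists_rational (V := Additive V) (p := p) (fun h => hp.not_dvd_one
    (hcop.gcd_eq_one ▸ Nat.dvd_gcd h hpd)) σ
    (fun g hg v hv => by
      apply Additive.toMul.injective
      apply Subtype.ext
      refine hfpf g hg _ ?_
      exact congrArg (fun y : Additive V => ((Additive.toMul y : V) : K)) hv)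
  haveI : NeZero n := ⟨hn.ne'⟩
  exact nonempty_equiv_of_perfect hρ hperf

end CfsgLib.Perm.Zassenhaus
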