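import Cfsg.Agent.Lib.Perm.Zassenhaus.Tetra

/-!
# An element of order three against the four axes of a tetrahedral pair

Either the scalar coordinate of the axis of the element vanishes and the four inner products with
the axes are `±1` or square to five, or a degenerate configuration arises, which is impossible.
-/

set_option autoImplicit false

namespace CfsgLib.Perm.Zassenhaus

open Matrix

variable {G : Type*} [Group G] [Finite G] {n : ℕ} [NeZero n]
  {ρ : G →* Matrix (Fin n) (Fin n) ℚ} {a b : G}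

/-- A value of an inner product. -/
def Val (V : Kc ρ a b) : Prop := V = 1 ∨ V = -1 ∨ V * V = (5 : ℚ) • 1

/-- The four axes of the tetrahedron and their inverses. -/
def axes (a b : G) : Set G :=
  {x | ∃ d ∈ ({a, b, a * b * a⁻¹, a * (a * b * a⁻¹) * a⁻¹} : Set G), x = d ∨ x = d⁻¹}

omit [Finite G] in
theorem axes_le_closure {a b x : G} (h : x ∈ axes a b) :
    x ∈ Subgroup.closure ({a, b} : Set G) := by
  have haM : a ∈ Subgroup.closure ({a, b} : Set G) := Subgroup.subset_closure (by simp)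
  have hbM : b ∈ Subgroup.closure ({a, b} : Set G) := Subgroup.subset_closure (by simp)
  have h3 := Subgroup.mul_mem _ (Subgroup.mul_mem _ haM hbM) (Subgroup.inv_mem _ haM)
  have h4 := Subgroup.mul_mem _ (Subgroup.mul_mem _ haM h3) (Subgroup.inv_mem _ haM)
  obtain ⟨d, hd, hx⟩ := h
  have hdM : d ∈ Subgroup.closure ({a, b} : Set G) := by
    rcases hd with rfl | rfl | rfl | rfl
    exacts [haM, hbM, h3, h4]
  rcases hx with rfl | rfl
  exacts [hdM, Subgroup.inv_mem _ hdM]

namespace Pair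

variable (T : Pair ρ a b)
include T

omit [Finite G] in
theorem sq_eqs {c : G} (hc : orderOf c = 3) {P A B C : Kc ρ a b} (h : U ρ c = E ρ a b P A B C) :
    P * P - A * A - B * B - C * C = (-3 : ℚ) • 1 ∧ P * A + A * P + B * C - C * B = 0 ∧
      P * B + B * P + C * A - A * C = 0 ∧ P * C + C * P + A * B - B * A = 0 := by
  have e := U_sq' T.fpf hc
  rw [h, T.mul_E, scalar_E (ρ := ρ) (a := a) (b := b)] at e
  exact T.inj e

omit [Finite G] in
theorem sigma_E {d c : G} {P A B C P' A' B' C' : Kc ρ a b} (hd : U ρ d = E ρ a b P' A' B' C')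
    (h : U ρ c = E ρ a b P A B C) : sigma ρ d c = E ρ a b
      ((P' * P - A' * A - B' * B - C' * C) + (P * P' - A * A' - B * B' - C * C'))
      ((P' * A + A' * P + B' * C - C' * B) + (P * A' + A * P' + B * C' - C * B'))
      ((P' * B + B' * P + C' * A - A' * C) + (P * B' + B * P' + C * A' - A * C'))
      ((P' * C + C' * P + A' * B - B' * A) + (P * C' + C * P' + A * B' - B * A')) := by
  rw [sigma, hd, h, T.mul_E, T.mul_E, add_E]

theorem axis_cases {c d : G} (hc : orderOf c = 3) (hd : orderOf d = 3) {x y z : ℚ}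
    (hx : x * x = 1) (hy : y * y = 1) (hz : z * z = 1)
    (hdE : U ρ d = E ρ a b 0 (x • 1) (y • 1) (z • 1)) {P A B C : Kc ρ a b}
    (h : U ρ c = E ρ a b P A B C) :
    (P = 0 ∧ (c = d ∨ c = d⁻¹)) ∨
      (P = 0 ∧ (x • A + y • B + z • C = 1 ∨ x • A + y • B + z • C = -1)) ∨
      ((x • A + y • B + z • C) * (x • A + y • B + z • C) - (3 : ℚ) • (P * P) = (5 : ℚ) • 1 ∧
        (x • A + y • B + z • C) * P + P * (x • A + y • B + z • C) = 0) := by
  have hσ : sigma ρ d c = E ρ a b ((-2 : ℚ) • (x • A + y • B + z • C)) ((2 * x) • P)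
      ((2 * y) • P) ((2 * z) • P) := by
    rw [T.sigma_E hdE h]
    congr 1 <;>
      simp only [zero_mul, mul_zero, smul_mul_assoc, mul_smul_comm, one_mul, mul_one, smul_add] <;>
      module
  have hx0 : x ≠ 0 := fun e => by simp [e] at hx
  have hscal : ∀ q : ℚ, sigma ρ d c = q • 1 →
      P = 0 ∧ x • A + y • B + z • C = (-q / 2) • 1 := by
    intro q hq
    rw [hσ, scalar_E (ρ := ρ) (a := a) (b := b)] at hq
    obtain ⟨h0, h1, -, -⟩ := T.inj hq
    refine ⟨(smul_eq_zero.mp h1).resolve_left (mul_ne_zero two_ne_zero hx0), ?_⟩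
    rw [show (-q / 2) = (-1 / 2) * q by ring, ← smul_smul, ← h0, smul_smul]
    norm_num
  rcases sigma_table T.fpf hd hc with e | e | e | e | e
  · exact Or.inl ⟨(hscal _ e.2.2).1, Or.inr e.2.1⟩
  · exact Or.inl ⟨(hscal _ e.2.2).1, Or.inl e.2.1⟩
  · obtain ⟨hP, hV⟩ := hscal _ e.2
    refine Or.inr (Or.inl ⟨hP, Or.inl ?_⟩)
    rw [hV]; norm_num
  · obtain ⟨hP, hV⟩ := hscal _ e.2
    refine Or.inr (Or.inl ⟨hP, Or.inr ?_⟩)
    rw [hV]; norm_num
  · refine Or.inr (Or.inr ?_)
    have e2 := e.2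
    rw [hσ, T.mul_E, scalar_E (ρ := ρ) (a := a) (b := b)] at e2
    obtain ⟨e0, e1, -, -⟩ := T.inj e2
    set V := x • A + y • B + z • C
    simp only [smul_mul_assoc, mul_smul_comm, smul_smul] at e0 e1
    rw [show 2 * x * (2 * x) = 4 by linear_combination 4 * hx,
      show 2 * y * (2 * y) = 4 by linear_combination 4 * hy,
      show 2 * z * (2 * z) = 4 by linear_combination 4 * hz] at e0
    refine ⟨?_, ?_⟩
    · apply smul_right_injective _ (show (4 : ℚ) ≠ 0 by norm_num)
      simp only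
      linear_combination (norm := module) e0
    · apply smul_right_injective _ (mul_ne_zero (show (-4 : ℚ) ≠ 0 by norm_num) hx0)
      simp only
      linear_combination (norm := module) e1

omit [Finite G] in
theorem U_third : U ρ (a * b * a⁻¹) = E ρ a b 0 (-1) (-1) 1 := T.conj_a b T.U_right

omit [Finite G] in
theorem U_fourth : U ρ (a * (a * b * a⁻¹) * a⁻¹) = E ρ a b 0 (-1) 1 (-1) := T.conj_a _ T.U_third

omit [Finite G] in
theorem deg_facts {c : G} (hc : orderOf c = 3) {P A B C : Kc ρ a b}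
    (h : U ρ c = E ρ a b P A B C)
    (h1 : (A + B + C) * (A + B + C) - (3 : ℚ) • (P * P) = (5 : ℚ) • 1 ∧
      (A + B + C) * P + P * (A + B + C) = 0)
    (h2 : (A - B - C) * (A - B - C) - (3 : ℚ) • (P * P) = (5 : ℚ) • 1 ∧
      (A - B - C) * P + P * (A - B - C) = 0)
    (h3 : (C - A - B) * (C - A - B) - (3 : ℚ) • (P * P) = (5 : ℚ) • 1 ∧
      (C - A - B) * P + P * (C - A - B) = 0)
    (h4 : (B - C - A) * (B - C - A) - (3 : ℚ) • (P * P) = (5 : ℚ) • 1 ∧
      (B - C - A) * P + P * (B - C - A) = 0) :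
    P * P = -1 ∧ A * A + B * B + C * C = (2 : ℚ) • 1 ∧ P * A + A * P = 0 ∧ P * B + B * P = 0 ∧
      P * C + C * P = 0 ∧ A * B = 0 ∧ B * A = 0 ∧ A * C = 0 ∧ C * A = 0 ∧ B * C = 0 ∧
      C * B = 0 := by
  obtain ⟨h1, k1⟩ := h1
  obtain ⟨h2, k2⟩ := h2
  obtain ⟨h3, k3⟩ := h3
  obtain ⟨h4, k4⟩ := h4
  obtain ⟨e0, e1, e2, e3⟩ := T.sq_eqs hc h
  simp only [add_mul, mul_add, sub_mul, mul_sub] at h1 h2 h3 h4 k1 k2 k3 k4
  have pa : P * A + A * P = 0 := by linear_combination (norm := module) (1 / 2 : ℚ) • k1 + (1 / 2 : ℚ) • k2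
  have pb : P * B + B * P = 0 := by linear_combination (norm := module) (1 / 2 : ℚ) • k1 + (1 / 2 : ℚ) • k4
  have pc : P * C + C * P = 0 := by linear_combination (norm := module) (1 / 2 : ℚ) • k1 + (1 / 2 : ℚ) • k3
  have cbc : B * C = C * B := by linear_combination (norm := module) e1 - pa
  have cca : C * A = A * C := by linear_combination (norm := module) e2 - pb
  have cab : A * B = B * A := by linear_combination (norm := module) e3 - pc
  rw [← cbc, cca, ← cab] at h1 h2 h3 h4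
  have ab : A * B = 0 := by
    linear_combination (norm := module)
      (1 / 8 : ℚ) • h1 - (1 / 8 : ℚ) • h2 + (1 / 8 : ℚ) • h3 - (1 / 8 : ℚ) • h4
  have ac : A * C = 0 := by
    linear_combination (norm := module)
      (1 / 8 : ℚ) • h1 - (1 / 8 : ℚ) • h2 - (1 / 8 : ℚ) • h3 + (1 / 8 : ℚ) • h4
  have bc : B * C = 0 := by
    linear_combination (norm := module)
      (1 / 8 : ℚ) • h1 + (1 / 8 : ℚ) • h2 - (1 / 8 : ℚ) • h3 - (1 / 8 : ℚ) • h4
  have pp : P * P = -1 := by
    linear_combination (norm := module)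
      (-1 / 2 : ℚ) • e0 - (1 / 8 : ℚ) • (h1 + h2 + h3 + h4)
  refine ⟨pp, ?_, pa, pb, pc, ab, cab ▸ ab, ac, cca ▸ ac, bc, cbc ▸ bc⟩
  linear_combination (norm := module) -e0 + pp

theorem not_deg {c : G} (hc : orderOf c = 3) {P A B C : Kc ρ a b} (h : U ρ c = E ρ a b P A B C)
    (pp : P * P = -1) (hs : A * A + B * B + C * C = (2 : ℚ) • 1) (pa : P * A + A * P = 0)
    (pb : P * B + B * P = 0) (pc : P * C + C * P = 0) (ab : A * B = 0) (ba : B * A = 0)
    (ac : A * C = 0) (ca : C * A = 0) (bc : B * C = 0) (cb : C * B = 0) : A = 0 := by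
  have hgi := T.conj_gi c h
  have hA3 : A * (A * A) = (2 : ℚ) • A := by
    have e : A * (A * A + B * B + C * C) = (2 : ℚ) • A := by rw [hs, mul_smul_comm, mul_one]
    rwa [mul_add, mul_add, ← mul_assoc A B, ← mul_assoc A C, ab, ac, zero_mul, zero_mul, add_zero,
      add_zero] at e
  have hEE : A * A * (A * A) = (2 : ℚ) • (A * A) := by
    rw [mul_assoc, hA3, mul_smul_comm]
  have hc' : orderOf (a * (a * b⁻¹) * a⁻¹ * c * (a * (a * b⁻¹) * a⁻¹)⁻¹) = 3 := by
    rw [← MulAut.conj_apply, MulEquiv.orderOf_eq]; exact hc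
  have hσ : sigma ρ c (a * (a * b⁻¹) * a⁻¹ * c * (a * (a * b⁻¹) * a⁻¹)⁻¹) =
      E ρ a b ((2 : ℚ) • 1 - (4 : ℚ) • (A * A)) 0 0 0 := by
    rw [T.sigma_E h hgi]
    congr 1 <;> simp only [mul_neg, neg_mul, ab, ba, ac, ca, bc, cb]
    · linear_combination (norm := module) (2 : ℚ) • pp + (2 : ℚ) • hs
    · linear_combination (norm := module) (2 : ℚ) • pa
    · module
    · module
  have hscal : ∀ q : ℚ, sigma ρ c (a * (a * b⁻¹) * a⁻¹ * c * (a * (a * b⁻¹) * a⁻¹)⁻¹) = q • 1 →
      A * A = ((2 - q) / 4) • (1 : Kc ρ a b) := by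
    intro q hq
    rw [hσ, scalar_E (ρ := ρ) (a := a) (b := b)] at hq
    obtain ⟨e, -, -, -⟩ := T.inj hq
    linear_combination (norm := module) (-1 / 4 : ℚ) • e
  have hbad : ∀ r : ℚ, r * r ≠ 2 * r → A * A ≠ r • 1 := by
    intro r hr e
    rw [e, smul_mul_smul_comm, one_mul, smul_smul] at hEE
    exact hr (scal_inj hEE)
  rcases sigma_table T.fpf hc hc' with e | e | e | e | e
  · exact absurd (hscal _ e.2.2) (hbad _ (by norm_num))
  · rw [e.2.1] at hgi
    obtain ⟨-, -, hB, hC⟩ := T.inj (h.symm.trans hgi)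
    have hB0 : B = 0 := by
      apply smul_right_injective _ (two_ne_zero : (2 : ℚ) ≠ 0)
      linear_combination (norm := module) hB
    have hC0 : C = 0 := by
      apply smul_right_injective _ (two_ne_zero : (2 : ℚ) ≠ 0)
      linear_combination (norm := module) hC
    rw [hB0, hC0, mul_zero, add_zero, add_zero] at hs
    have hgj := T.conj_gj c h
    have hc2 : orderOf (a * b⁻¹ * c * (a * b⁻¹)⁻¹) = 3 := by
      rw [← MulAut.conj_apply, MulEquiv.orderOf_eq]; exact hc
    set c2 := a * b⁻¹ * c * (a * b⁻¹)⁻¹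
    have hgjE := T.map_E (T.inv_E hc2 hgj)
    have hAPA : A * P * A = (-2 : ℚ) • P := by
      rw [show A * P = -(P * A) from eq_neg_of_add_eq_zero_right pa, neg_mul, mul_assoc, hs,
        mul_smul_comm, mul_one, neg_smul]
    have hPA2 : P * A * (P * A) = (2 : ℚ) • 1 := by
      rw [mul_assoc, ← mul_assoc A P A, hAPA, mul_smul_comm, pp]
      module
    have hMM : (P * A - A) * (P * A - A) = (4 : ℚ) • 1 := by
      rw [sub_mul, mul_sub, mul_sub, hPA2, mul_assoc P A A, hs, ← mul_assoc A P A, hAPA,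
        mul_smul_comm, mul_one]
      module
    have hq : ρ (a * (a * b⁻¹) * a⁻¹ * (c * c2⁻¹)) =
        E ρ a b ((1 / 2 : ℚ) • (P * A - A)) 0 0 0 := by
      rw [map_mul, map_mul ρ c, T.map_gi, T.map_E h, hgjE, T.mul_E, T.mul_E]
      simp only [hB0, hC0, neg_zero, smul_zero, mul_zero, zero_mul, sub_zero, add_zero, zero_sub,
        zero_add, neg_neg, smul_mul_assoc, mul_smul_comm, smul_smul, mul_sub, sub_mul, mul_neg,
        neg_mul, one_mul, mul_one, hs, pp, smul_sub, smul_neg]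
      congr 1
      · rw [show A * P = -(P * A) from eq_neg_of_add_eq_zero_right pa]
        module
      · module
    set w := a * (a * b⁻¹) * a⁻¹ * (c * c2⁻¹)
    have hw : w * w = 1 := by
      apply map_injective T.fpf
      rw [map_mul, hq, T.mul_E, map_one, ← one_smul ℚ (1 : Matrix (Fin n) (Fin n) ℚ),
        scalar_E (ρ := ρ) (a := a) (b := b)]
      simp only [mul_zero, zero_mul, sub_zero, add_zero, smul_mul_assoc, mul_smul_comm, smul_smul,
        hMM]
      norm_num
    obtain ⟨q, hq1⟩ : ∃ q : ℚ, (1 / 2 : ℚ) • (P * A - A) = q • (1 : Kc ρ a b) := by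
      by_cases hw1 : w = 1
      · rw [hw1, map_one, ← one_smul ℚ (1 : Matrix (Fin n) (Fin n) ℚ),
          scalar_E (ρ := ρ) (a := a) (b := b)] at hq
        exact ⟨1, (T.inj hq).1.symm⟩
      · rw [map_involution T.fpf hw hw1, show (-1 : Matrix (Fin n) (Fin n) ℚ) = (-1 : ℚ) • 1 by simp,
          scalar_E (ρ := ρ) (a := a) (b := b)] at hq
        exact ⟨-1, (T.inj hq).1.symm⟩
    have hP : P = (1 : Kc ρ a b) + q • A := by
      have e2 : (1 / 2 : ℚ) • ((P * A - A) * A) = q • A := by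
        rw [← smul_mul_assoc, hq1, smul_mul_assoc, one_mul]
      rw [sub_mul, mul_assoc, hs, mul_smul_comm, mul_one] at e2
      linear_combination (norm := module) e2
    exfalso
    have hAP : A * P = P * A := by
      rw [hP, mul_add, add_mul, mul_one, one_mul, mul_smul_comm, smul_mul_assoc]
    rw [hAP] at pa
    have hPA : P * A = 0 := by linear_combination (norm := module) (1 / 2 : ℚ) • pa
    have h0 : (2 : ℚ) • P = 0 := by
      rw [← mul_one P, ← mul_smul_comm, ← hs, ← mul_assoc, hPA, zero_mul]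
    rw [(smul_eq_zero.mp h0).resolve_left two_ne_zero, mul_zero, zero_eq_neg] at pp
    exact one_ne_zero pp
  · exact absurd (hscal _ e.2) (hbad _ (by norm_num))
  · have h0 := hscal _ e.2
    rw [show ((2 : ℚ) - 2) / 4 = 0 by norm_num, zero_smul] at h0
    rw [h0, mul_zero] at hA3
    exact (smul_eq_zero.mp hA3.symm).resolve_left two_ne_zero
  · exfalso
    have e2 := e.2
    rw [hσ, T.mul_E, scalar_E (ρ := ρ) (a := a) (b := b)] at e2
    obtain ⟨e0, -, -, -⟩ := T.inj e2
    simp only [mul_zero, sub_zero, mul_sub, sub_mul, smul_mul_assoc, mul_smul_comm, smul_smul,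
      one_mul, mul_one] at e0
    have h1 : A * A = (1 : ℚ) • (1 : Kc ρ a b) := by
      linear_combination (norm := module) (1 / 16 : ℚ) • e0 - hEE
    exact hbad 1 (by norm_num) h1

/-- The axes have no vanishing first coordinate. -/
theorem axes_coord_ne {c : G} (hc : c ∈ axes a b) {P A B C : Kc ρ a b}
    (h : U ρ c = E ρ a b P A B C) : A ≠ 0 := by
  have hord : ∀ g d : G, orderOf d = 3 → orderOf (g * d * g⁻¹) = 3 := fun g d hd => by
    rw [← MulAut.conj_apply, MulEquiv.orderOf_eq]; exact hd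
  intro hA
  subst hA
  have key : ∀ d : G, orderOf d = 3 → ∀ y z w : Kc ρ a b, U ρ d = E ρ a b 0 y z w → y ≠ 0 →
      ¬ (c = d ∨ c = d⁻¹) := by
    rintro d hd y z w hdE hy (rfl | rfl)
    · exact hy (T.inj (h.symm.trans hdE)).2.1.symm
    · exact hy (neg_eq_zero.mp (T.inj (h.symm.trans (T.inv_E hd hdE))).2.1.symm)
  obtain ⟨d, hd, hx⟩ := hc
  rcases hd with rfl | rfl | rfl | rfl
  · exact key _ T.ha 1 1 1 T.U_left one_ne_zero hx
  · exact key _ T.hb 1 (-1) (-1) T.U_right one_ne_zero hx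
  · exact key _ (hord a b T.hb) (-1) (-1) 1 T.U_third (neg_ne_zero.mpr one_ne_zero) hx
  · exact key _ (hord a _ (hord a b T.hb)) (-1) 1 (-1) T.U_fourth (neg_ne_zero.mpr one_ne_zero) hx

/-- The scalar coordinate vanishes, and the inner products with the axes take three values. -/
theorem trichotomy {c : G} (hc : orderOf c = 3) {P A B C : Kc ρ a b}
    (h : U ρ c = E ρ a b P A B C) :
    (P = 0 ∧ c ∈ axes a b) ∨ (P = 0 ∧ Val (A + B + C) ∧ Val (A - B - C) ∧
      Val (C - A - B) ∧ Val (B - C - A)) := by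
  by_cases hmem : P = 0 ∧ c ∈ axes a b
  · exact Or.inl hmem
  right
  have hord : ∀ g d : G, orderOf d = 3 → orderOf (g * d * g⁻¹) = 3 := fun g d hd => by
    rw [← MulAut.conj_apply, MulEquiv.orderOf_eq]; exact hd
  have key : ∀ (d : G), orderOf d = 3 → d ∈ ({a, b, a * b * a⁻¹, a * (a * b * a⁻¹) * a⁻¹} : Set G) →
      ∀ x y z : ℚ, x * x = 1 → y * y = 1 → z * z = 1 →
      U ρ d = E ρ a b 0 (x • 1) (y • 1) (z • 1) → ∀ V : Kc ρ a b, x • A + y • B + z • C = V →
      (P = 0 ∧ Val V) ∨ (V * V - (3 : ℚ) • (P * P) = (5 : ℚ) • 1 ∧ V * P + P * V = 0) := by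
    rintro d hd hdM x y z hx hy hz hdE V rfl
    rcases T.axis_cases hc hd hx hy hz hdE h with ⟨hP, e | e⟩ | ⟨hP, e⟩ | e
    · exact absurd ⟨hP, d, hdM, Or.inl e⟩ hmem
    · exact absurd ⟨hP, d, hdM, Or.inr e⟩ hmem
    · exact Or.inl ⟨hP, e.imp_right Or.inl⟩
    · exact Or.inr e
  have k1 := key a T.ha (by simp) 1 1 1 (by norm_num) (by norm_num) (by norm_num)
    (by rw [one_smul]; exact T.U_left) (A + B + C) (by module)
  have k2 := key b T.hb (by simp) 1 (-1) (-1) (by norm_num) (by norm_num) (by norm_num)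
    (by rw [one_smul, neg_smul, one_smul]; exact T.U_right) (A - B - C) (by module)
  have k3 := key _ (hord a b T.hb) (by simp) (-1) (-1) 1 (by norm_num) (by norm_num) (by norm_num)
    (by rw [one_smul, neg_smul, one_smul]; exact T.U_third) (C - A - B) (by module)
  have k4 := key _ (hord a _ (hord a b T.hb))
    (by simp)
    (-1) 1 (-1) (by norm_num) (by norm_num) (by norm_num)
    (by rw [one_smul, neg_smul, one_smul]; exact T.U_fourth) (B - C - A) (by module)
  have fin : ∀ V : Kc ρ a b, P = 0 →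
      ((P = 0 ∧ Val V) ∨ (V * V - (3 : ℚ) • (P * P) = (5 : ℚ) • 1 ∧ V * P + P * V = 0)) →
      Val V := by
    rintro V hP (⟨-, e⟩ | ⟨e, -⟩)
    · exact e
    · rw [hP, mul_zero, smul_zero, sub_zero] at e
      exact Or.inr (Or.inr e)
  by_cases hP : P = 0
  · exact ⟨hP, fin _ hP k1, fin _ hP k2, fin _ hP k3, fin _ hP k4⟩
  exfalso
  obtain ⟨pp, hs, pa, pb, pc, ab, ba, ac, ca, bc, cb⟩ := T.deg_facts hc h
    (k1.resolve_left fun e => hP e.1) (k2.resolve_left fun e => hP e.1)
    (k3.resolve_left fun e => hP e.1) (k4.resolve_left fun e => hP e.1)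
  have hA := T.not_deg hc h pp hs pa pb pc ab ba ac ca bc cb
  have hs' : B * B + C * C + A * A = (2 : ℚ) • (1 : Kc ρ a b) := by rw [← hs]; abel
  have hB := T.not_deg (hord a c hc) (T.conj_a c h) pp hs' pb pc pa bc cb ba ab ca ac
  have hs'' : C * C + A * A + B * B = (2 : ℚ) • (1 : Kc ρ a b) := by rw [← hs]; abel
  have hC := T.not_deg (hord a _ (hord a c hc)) (T.conj_a _ (T.conj_a c h)) pp hs'' pc pa pb ca ac cb
    bc ab ba
  rw [hA, hB, hC, mul_zero, add_zero, add_zero] at hs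
  exact two_ne_zero ((smul_eq_zero.mp hs.symm).resolve_right one_ne_zero)

end Pair

end CfsgLib.Perm.Zassenhaus
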