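import Cfsg.Agent.Lib.Perm.Zassenhaus.Orders

/-!
# The five possible anticommutators of two elements of order three, and a tetrahedral pair
-/

set_option autoImplicit false

namespace CfsgLib.Perm.Zassenhaus

open Matrix

variable {G : Type*} [Group G] [Finite G] {n : ℕ} [NeZero n] {ρ : G →* Matrix (Fin n) (Fin n) ℚ}
  (hρ : ∀ g : G, g ≠ 1 → IsUnit (ρ g - 1))

omit [Finite G] in
theorem scal_inj {R : Type*} [Ring R] [Algebra ℚ R] [Nontrivial R] {q r : ℚ}
    (h : q • (1 : R) = r • 1) : q = r := by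
  rw [← Algebra.algebraMap_eq_smul_one, ← Algebra.algebraMap_eq_smul_one] at h
  exact (algebraMap ℚ R).injective h

theorem sq_ne_twenty (q : ℚ) : q * q ≠ 20 := by
  intro h
  refine Rat.isSquare_ofNat_iff.not.mpr ?_ ⟨q, h.symm⟩
  rintro ⟨m, hm⟩
  have : m ≤ 4 := by nlinarith
  interval_cases m <;> omega

theorem scal_sq_ne {R : Type*} [Ring R] [Algebra ℚ R] [Nontrivial R] (q : ℚ) :
    (q • (1 : R)) * (q • 1) ≠ (20 : ℚ) • 1 := by
  rw [smul_mul_smul_comm, one_mul]
  exact fun h => sq_ne_twenty q (scal_inj h)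

include hρ

omit [Finite G] [NeZero n] in
theorem U_sq' {a : G} [NeZero n] (ha : orderOf a = 3) : U ρ a * U ρ a = (-3 : ℚ) • 1 := by
  rw [U_sq hρ ha, neg_smul, ← Algebra.algebraMap_eq_smul_one, map_ofNat]

omit [Finite G] in
theorem map_eq_smul {a : G} : ρ a = (1 / 2 : ℚ) • (U ρ a - 1) := by
  rw [U, add_sub_cancel_right, two_mul, ← two_smul ℚ (ρ a), smul_smul]
  norm_num

/-- The table of anticommutators. -/
theorem sigma_table {a c : G} (ha : orderOf a = 3) (hc : orderOf c = 3) :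
    (orderOf (a * c) = 1 ∧ c = a⁻¹ ∧ sigma ρ a c = (6 : ℚ) • 1) ∨
    (orderOf (a * c) = 3 ∧ c = a ∧ sigma ρ a c = (-6 : ℚ) • 1) ∨
    (orderOf (a * c) = 4 ∧ sigma ρ a c = (-2 : ℚ) • 1) ∨
    (orderOf (a * c) = 6 ∧ sigma ρ a c = (2 : ℚ) • 1) ∨
    (orderOf (a * c) = 10 ∧ sigma ρ a c * sigma ρ a c = (20 : ℚ) • 1) := by
  have hmem := order_cases hρ ha hc
  simp only [Finset.mem_insert, Finset.mem_singleton] at hmem
  have hs : sigma ρ a c = (4 : ℚ) • (ρ (a * c) + ρ (a * c)⁻¹) - (2 : ℚ) • 1 := by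
    rw [sigma_eq hρ ha hc]
    simp [Algebra.smul_def, map_ofNat]
  set w := a * c with hw
  have hpow : ρ w ^ orderOf w = 1 := by rw [← map_pow, pow_orderOf_eq_one, map_one]
  have hinv : ∀ m, orderOf w = m + 1 → ρ w⁻¹ = ρ w ^ m := by
    intro m hm
    rw [← map_pow]
    congr 1
    apply inv_eq_of_mul_eq_one_right
    rw [← pow_succ', ← hm, pow_orderOf_eq_one]
  have hinvol : ∀ m, 0 < m → orderOf w = 2 * m → ρ w ^ m = -1 := by
    intro m hm0 hm
    rw [← map_pow]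
    refine map_involution hρ ?_ (pow_ne_one_of_lt_orderOf hm0.ne' (by omega))
    rw [← pow_add, ← two_mul, ← hm, pow_orderOf_eq_one]
  have hunit : ∀ m, 0 < m → 2 * m + 1 < orderOf w → ρ w ^ (2 * m + 1) = -1 → IsUnit (ρ w + 1) := by
    intro m hm0 hlt hm
    have e : ρ w + 1 = -(ρ w * (ρ (w ^ (2 * m)) - 1)) := by
      rw [map_pow, mul_sub, mul_one, ← pow_succ', hm]; abel
    rw [e]
    exact (((Group.isUnit w).map ρ).mul (hρ _ (pow_ne_one_of_lt_orderOf (by omega) (by omega)))).neg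
  rcases hmem with h | h | h | h | h
  · left
    have hw1 : w = 1 := orderOf_eq_one_iff.mp h
    refine ⟨h, (eq_inv_of_mul_eq_one_right hw1), ?_⟩
    rw [hs, hw1, inv_one, map_one]
    module
  · right; left
    refine ⟨h, (eq_of_order_three hρ ha hc h).symm, ?_⟩
    rw [hs, map_inv_of_order_three hρ h]
    module
  · right; right; left
    refine ⟨h, ?_⟩
    rw [hs, hinv 3 h, pow_succ, hinvol 2 two_pos h, neg_one_mul]
    module
  · right; right; right; left
    refine ⟨h, ?_⟩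
    have h3 := hinvol 3 (by norm_num) h
    have hu := hunit 1 one_pos (by omega) h3
    have hq : ρ w * ρ w - ρ w + 1 = 0 := by
      refine hu.mul_right_eq_zero.mp ?_
      have : (ρ w + 1) * (ρ w * ρ w - ρ w + 1) = ρ w ^ 3 + 1 := by noncomm_ring
      rw [this, h3]; simp
    have hi : ρ w ^ 5 = 1 - ρ w := by
      rw [show 5 = 3 + 2 from rfl, pow_add, h3, pow_two]
      linear_combination (norm := noncomm_ring) -hq
    rw [hs, hinv 5 h, hi]
    module
  · right; right; right; right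
    refine ⟨h, ?_⟩
    have h5 := hinvol 5 (by norm_num) h
    have hu := hunit 2 two_pos (by omega) h5
    have hq : ρ w ^ 4 - ρ w ^ 3 + ρ w ^ 2 - ρ w + 1 = 0 := by
      refine hu.mul_right_eq_zero.mp ?_
      have : (ρ w + 1) * (ρ w ^ 4 - ρ w ^ 3 + ρ w ^ 2 - ρ w + 1) = ρ w ^ 5 + 1 := by noncomm_ring
      rw [this, h5]; simp
    have hi : ρ w⁻¹ = -(ρ w ^ 4) := by
      rw [hinv 9 h, show 9 = 5 + 4 from rfl, pow_add, h5, neg_one_mul]
    have ht : (ρ w + ρ w⁻¹) * (ρ w + ρ w⁻¹) = (ρ w + ρ w⁻¹) + 1 := by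
      rw [hi]
      have e8 : ρ w ^ 4 * ρ w ^ 4 = -(ρ w ^ 3) := by
        rw [← pow_add, show 4 + 4 = 5 + 3 from rfl, pow_add, h5, neg_one_mul]
      have e5 : ρ w * ρ w ^ 4 = -1 := by rw [← pow_succ', h5]
      have e5' : ρ w ^ 4 * ρ w = -1 := by rw [← pow_succ, h5]
      rw [mul_add, add_mul, add_mul, mul_neg, neg_mul, neg_mul, mul_neg, neg_neg, e8, e5, e5',
        ← pow_two]
      linear_combination (norm := noncomm_ring) hq
    rw [hs]
    set t := ρ w + ρ w⁻¹
    have : ((4 : ℚ) • t - (2 : ℚ) • 1) * ((4 : ℚ) • t - (2 : ℚ) • 1) =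
        (16 : ℚ) • (t * t) - (16 : ℚ) • t + (4 : ℚ) • 1 := by
      simp only [mul_sub, sub_mul, smul_mul_assoc, mul_smul_comm, mul_one, one_mul]
      module
    rw [this, ht]
    module

/-- Some pair of elements of order three has anticommutator two. -/
theorem exists_pair (h : ∃ a c : G, orderOf a = 3 ∧ orderOf c = 3 ∧ ¬ Commute a c) :
    ∃ a b : G, orderOf a = 3 ∧ orderOf b = 3 ∧ sigma ρ a b = (2 : ℚ) • 1 := by
  obtain ⟨a, c, ha, hc, hne⟩ := h
  have key : ∀ d : G, orderOf d = 3 → sigma ρ a d = (-2 : ℚ) • 1 →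
      ∃ a b : G, orderOf a = 3 ∧ orderOf b = 3 ∧ sigma ρ a b = (2 : ℚ) • 1 := by
    intro d hd e
    refine ⟨a, d⁻¹, ha, by rwa [orderOf_inv], ?_⟩
    rw [sigma, U_inv hρ hd, mul_neg, neg_mul, ← neg_add, ← sigma, e, ← neg_smul, neg_neg]
  rcases sigma_table hρ ha hc with h | h | h | h | h
  · exact absurd (h.2.1 ▸ (Commute.refl a).inv_right) hne
  · exact absurd (h.2.1 ▸ Commute.refl a) hne
  · exact key c hc h.2
  · exact ⟨a, c, ha, hc, h.2⟩
  refine key (c * a * c⁻¹) (by rw [← MulAut.conj_apply, MulEquiv.orderOf_eq]; exact ha) ?_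
  set x := U ρ a with hx
  set y := U ρ c with hy
  have hxx : x * x = (-3 : ℚ) • 1 := U_sq' hρ ha
  have hyy : y * y = (-3 : ℚ) • 1 := U_sq' hρ hc
  have hσ : y * x = sigma ρ a c - x * y := by rw [sigma, ← hx, ← hy]; abel
  have hci : ρ c⁻¹ = (1 / 2 : ℚ) • (-y - 1) := by
    rw [map_eq_smul hρ (a := c⁻¹), U_inv hρ hc]
  have hU : U ρ (c * a * c⁻¹) = ρ c * x * ρ c⁻¹ := by
    have e : ρ c * ρ c⁻¹ = 1 := by rw [← map_mul, mul_inv_cancel, map_one]
    rw [hx, U, U, map_mul, map_mul]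
    linear_combination (norm := noncomm_ring) -e
  set s := sigma ρ a c with hsdef
  have hxs : x * s = s * x := sigma_commute_left hρ ha
  have hys : y * s = s * y := sigma_commute_right hρ hc
  have hxx' : ∀ z, x * (x * z) = (-3 : ℚ) • z := fun z => by
    rw [← mul_assoc, hxx, smul_mul_assoc, one_mul]
  have hyy' : ∀ z, y * (y * z) = (-3 : ℚ) • z := fun z => by
    rw [← mul_assoc, hyy, smul_mul_assoc, one_mul]
  have hσ' : ∀ z, y * (x * z) = s * z - x * (y * z) := fun z => by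
    rw [← mul_assoc, hσ, sub_mul, mul_assoc]
  have hxs' : ∀ z, x * (s * z) = s * (x * z) := fun z => by
    rw [← mul_assoc, hxs, mul_assoc]
  have hys' : ∀ z, y * (s * z) = s * (y * z) := fun z => by
    rw [← mul_assoc, hys, mul_assoc]
  rw [sigma, ← hx, hU, map_eq_smul hρ (a := c), ← hy, hci]
  simp only [mul_add, add_mul, mul_sub, sub_mul, smul_mul_assoc, mul_smul_comm, mul_assoc, mul_neg,
    neg_mul, one_mul, mul_one, hxx, hxx', hyy, hyy', hσ, hσ', hxs, hxs', hys, hys', smul_add,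
    smul_sub, smul_neg, smul_smul, h.2]
  module

end CfsgLib.Perm.Zassenhaus
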