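import Cfsg.Agent.Lib.Perm.Zassenhaus.Axes

/-!
# Elements of order three relative to a tetrahedral pair

Each lies in the subgroup generated by the pair and one element with axis `(0, φ, ψ)`, where
`φ, ψ = (1 ± S) / 2` and `S ^ 2 = 5`; the element and `S` are unique.
-/

set_option autoImplicit false

namespace CfsgLib.Perm.Zassenhaus

open Matrix

variable {G : Type*} [Group G] [Finite G] {n : ℕ} [NeZero n]
  {ρ : G →* Matrix (Fin n) (Fin n) ℚ} {a b : G}

/-- The positive golden coefficient. -/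
noncomputable def phi (S : Kc ρ a b) : Kc ρ a b := (1 / 2 : ℚ) • (1 + S)

/-- The negative golden coefficient. -/
noncomputable def psi (S : Kc ρ a b) : Kc ρ a b := (1 / 2 : ℚ) • (1 - S)

/-- An element with icosahedral axis in standard position. -/
structure IsNormal (ρ : G →* Matrix (Fin n) (Fin n) ℚ) (a b c : G) (S : Kc ρ a b) : Prop where
  hc : orderOf c = 3
  sq : S * S = (5 : ℚ) • 1
  axis : U ρ c = E ρ a b 0 0 (phi S) (psi S)

/-- An element reached from the pair and an element in standard position. -/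
def Good (ρ : G →* Matrix (Fin n) (Fin n) ℚ) (a b c : G) : Prop :=
  c ∈ Subgroup.closure {a, b} ∨
    ∃ (c₀ : G) (S : Kc ρ a b), IsNormal ρ a b c₀ S ∧ c ∈ Subgroup.closure {a, b, c₀}

namespace Pair

variable (T : Pair ρ a b)
include T

omit [Finite G] T in
/-- Two scalar and two irrational values with sum zero cancel in pairs. -/
theorem opposite {r s u v : Kc ρ a b} {p q : ℚ} (hr : r = p • 1) (hs : s = q • 1)
    (hu : u * u = (5 : ℚ) • 1) (hv : v * v = (5 : ℚ) • 1) (hsum : r + s + u + v = 0) :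
    r + s = 0 := by
  rw [hr, hs, ← add_smul]
  by_contra ht
  have ht' : p + q ≠ 0 := fun e => ht (by rw [e, zero_smul])
  have hv' : v = -((p + q) • (1 : Kc ρ a b) + u) := by
    rw [hr, hs, ← add_smul] at hsum
    exact eq_neg_of_add_eq_zero_right hsum
  rw [hv', neg_mul_neg, mul_add, add_mul, add_mul, hu, smul_mul_assoc, mul_smul_comm, one_mul,
    smul_mul_assoc, one_mul, mul_smul_comm, mul_one, smul_smul] at hv
  have e : (p + q) • ((p + q) • (1 : Kc ρ a b) + (2 : ℚ) • u) = (p + q) • (0 : Kc ρ a b) := by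
    linear_combination (norm := module) hv
  have e' := smul_right_injective _ ht' e
  have e2 : u = (-(p + q) / 2) • (1 : Kc ρ a b) := by
    linear_combination (norm := module) (1 / 2 : ℚ) • e'
  rw [e2, smul_mul_smul_comm, one_mul] at hu
  exact sq_ne_twenty (p + q) (by linear_combination 4 * scal_inj hu)

omit [Finite G] T in
theorem four_values {r s u v : Kc ρ a b} (hr : Val r) (hs : Val s) (hu : Val u) (hv : Val v)
    (hsum : r + s + u + v = 0) (hsq : r * r + s * s + u * u + v * v = (12 : ℚ) • 1) :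
    r + s = 0 ∨ r + u = 0 ∨ r + v = 0 := by
  have key : ∀ w : Kc ρ a b, Val w →
      (∃ p : ℚ, w = p • 1 ∧ w * w = (1 : ℚ) • 1) ∨ w * w = (5 : ℚ) • 1 := by
    rintro w (rfl | rfl | h)
    · exact Or.inl ⟨1, (one_smul _ _).symm, by rw [one_mul, one_smul]⟩
    · exact Or.inl ⟨-1, by rw [neg_smul, one_smul], by rw [neg_mul_neg, one_mul, one_smul]⟩
    · exact Or.inr h
  rcases key r hr with ⟨p1, r1, r2⟩ | r2 <;> rcases key s hs with ⟨p2, s1, s2⟩ | s2 <;>
    rcases key u hu with ⟨p3, u1, u2⟩ | u2 <;> rcases key v hv with ⟨p4, v1, v2⟩ | v2 <;>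
    first
    | (exfalso
       rw [r2, s2, u2, v2, ← add_smul, ← add_smul, ← add_smul] at hsq
       have := scal_inj hsq
       norm_num at this
       done)
    | exact Or.inl (opposite r1 s1 u2 v2 hsum)
    | exact Or.inr (Or.inl (opposite r1 u1 s2 v2 (by rw [← hsum]; abel)))
    | exact Or.inr (Or.inr (opposite r1 v1 s2 u2 (by rw [← hsum]; abel)))
    | (left
       have e := opposite u1 v1 r2 s2 (by rw [← hsum]; abel)
       rw [add_assoc, e, add_zero] at hsum
       exact hsum)
    | (right; left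
       have e := opposite s1 v1 r2 u2 (by rw [← hsum]; abel)
       linear_combination (norm := module) hsum - e)
    | (right; right
       have e := opposite s1 u1 r2 v2 (by rw [← hsum]; abel)
       linear_combination (norm := module) hsum - e)

theorem good_of_sum_one {c : G} (hc : orderOf c = 3) {B C : Kc ρ a b}
    (h : U ρ c = E ρ a b 0 0 B C) (hsum : B + C = 1 ∨ B + C = -1) : ∃ (c₀ : G) (S : Kc ρ a b),
      IsNormal ρ a b c₀ S ∧ c ∈ Subgroup.closure {a, b, c₀} := by
  obtain ⟨e0, e1, -, -⟩ := T.sq_eqs hc h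
  simp only [mul_zero, zero_mul, add_zero, zero_sub, sub_zero, zero_add] at e0 e1
  have hBC : B * C = C * B := sub_eq_zero.mp e1
  have hD : (B - C) * (B - C) = (5 : ℚ) • 1 := by
    have hsq : (B + C) * (B + C) = 1 := by rcases hsum with e | e <;> rw [e] <;> simp
    simp only [add_mul, mul_add, sub_mul, mul_sub, ← hBC] at hsq ⊢
    linear_combination (norm := module) (-2 : ℚ) • e0 - hsq
  have hmem : ∀ c₀, c₀ ∈ Subgroup.closure ({a, b, c₀} : Set G) := fun c₀ =>
    Subgroup.subset_closure (by simp)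
  rcases hsum with e | e
  · refine ⟨c, B - C, ⟨hc, hD, ?_⟩, hmem c⟩
    rw [h]
    congr 1
    · rw [phi, ← e]; module
    · rw [psi, ← e]; module
  · refine ⟨c⁻¹, C - B, ⟨by rwa [orderOf_inv],
      by rw [← neg_sub, neg_mul_neg]; exact hD, ?_⟩, ?_⟩
    · rw [T.inv_E hc h, neg_zero]
      have e' : (1 : Kc ρ a b) = -(B + C) := by rw [e, neg_neg]
      congr 1
      · rw [phi, e']; module
      · rw [psi, e']; module
    · have := Subgroup.inv_mem _ (hmem c⁻¹)
      rwa [inv_inv] at this

omit [Finite G] in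
theorem conj_order (g c : G) (hc : orderOf c = 3) : orderOf (g * c * g⁻¹) = 3 := by
  rw [← MulAut.conj_apply, MulEquiv.orderOf_eq]; exact hc

omit [Finite G] T in
theorem mem_pair : a ∈ Subgroup.closure ({a, b} : Set G) ∧
    a * b⁻¹ ∈ Subgroup.closure ({a, b} : Set G) := by
  have h1 : a ∈ Subgroup.closure ({a, b} : Set G) := Subgroup.subset_closure (by simp)
  exact ⟨h1, Subgroup.mul_mem _ h1 (Subgroup.inv_mem _ (Subgroup.subset_closure (by simp)))⟩

omit [Finite G] T in
theorem of_conj_mem {g c : G} (hg : g ∈ Subgroup.closure ({a, b} : Set G))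
    (h : ∃ (c₀ : G) (S : Kc ρ a b),
      IsNormal ρ a b c₀ S ∧ g * c * g⁻¹ ∈ Subgroup.closure {a, b, c₀}) :
    ∃ (c₀ : G) (S : Kc ρ a b), IsNormal ρ a b c₀ S ∧ c ∈ Subgroup.closure {a, b, c₀} := by
  obtain ⟨c₀, S, hN, h⟩ := h
  refine ⟨c₀, S, hN, ?_⟩
  have hg' : g ∈ Subgroup.closure {a, b, c₀} :=
    Subgroup.closure_mono (Set.insert_subset_insert (Set.singleton_subset_iff.mpr (by simp))) hg
  rw [show c = g⁻¹ * (g * c * g⁻¹) * g by group]
  exact Subgroup.mul_mem _ (Subgroup.mul_mem _ (Subgroup.inv_mem _ hg') h) hg'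

theorem good_zero_left {c : G} (hc : orderOf c = 3) {B C : Kc ρ a b}
    (h : U ρ c = E ρ a b 0 0 B C) : ∃ (c₀ : G) (S : Kc ρ a b),
      IsNormal ρ a b c₀ S ∧ c ∈ Subgroup.closure {a, b, c₀} := by
  rcases T.trichotomy hc h with ⟨-, hm⟩ | ⟨-, v1, -, -, v4⟩
  · exact absurd rfl (T.axes_coord_ne hm h)
  rw [zero_add] at v1
  rw [sub_zero] at v4
  rcases v1 with e | e | e1
  · exact T.good_of_sum_one hc h (Or.inl e)
  · exact T.good_of_sum_one hc h (Or.inr e)
  obtain ⟨e0, k1, -, -⟩ := T.sq_eqs hc h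
  simp only [mul_zero, zero_mul, add_zero, zero_sub, sub_zero, zero_add] at e0 k1
  have hBC : B * C = C * B := sub_eq_zero.mp k1
  have hg := T.conj_gj c h
  rw [neg_zero] at hg
  refine of_conj_mem mem_pair.2 (T.good_of_sum_one (T.conj_order _ _ hc) hg ?_)
  rw [← sub_eq_add_neg]
  rcases v4 with e | e | e4
  · exact Or.inl e
  · exact Or.inr e
  exfalso
  simp only [add_mul, mul_add, sub_mul, mul_sub, ← hBC] at e1 e4
  have : (10 : ℚ) • (1 : Kc ρ a b) = (6 : ℚ) • 1 := by
    linear_combination (norm := module) -e1 - e4 - (2 : ℚ) • e0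
  exact absurd (scal_inj this) (by norm_num)

/-- Off the axes there is an element in standard position. -/
theorem exists_normal {c : G} (hc : orderOf c = 3) (hax : c ∉ axes a b) :
    ∃ (c₀ : G) (S : Kc ρ a b), IsNormal ρ a b c₀ S ∧ c ∈ Subgroup.closure {a, b, c₀} := by
  obtain ⟨P, A, B, C, h⟩ := T.exists_E (U ρ c)
  rcases T.trichotomy hc h with ⟨-, hm⟩ | ⟨hP, v1, v2, v3, v4⟩
  · exact absurd hm hax
  subst hP
  obtain ⟨e0, -, -, -⟩ := T.sq_eqs hc h
  simp only [mul_zero, zero_sub] at e0
  have hsq : (A + B + C) * (A + B + C) + (A - B - C) * (A - B - C) + (C - A - B) * (C - A - B) +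
      (B - C - A) * (B - C - A) = (12 : ℚ) • 1 := by
    simp only [add_mul, mul_add, sub_mul, mul_sub]
    linear_combination (norm := module) (-4 : ℚ) • e0
  have hd := mem_pair (a := a) (b := b)
  rcases four_values v1 v2 v3 v4 (by abel) hsq with e | e | e
  · have hA : A = 0 := by linear_combination (norm := module) (1 / 2 : ℚ) • e
    exact T.good_zero_left hc (hA ▸ h)
  · have hC : C = 0 := by linear_combination (norm := module) (1 / 2 : ℚ) • e
    subst hC
    exact of_conj_mem hd.1 (of_conj_mem hd.1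
      (T.good_zero_left (T.conj_order _ _ (T.conj_order _ _ hc)) (T.conj_a _ (T.conj_a c h))))
  · have hB : B = 0 := by linear_combination (norm := module) (1 / 2 : ℚ) • e
    subst hB
    exact of_conj_mem hd.1 (T.good_zero_left (T.conj_order _ _ hc) (T.conj_a c h))

/-- The scalar coordinate of every axis vanishes. -/
theorem classify {c : G} (hc : orderOf c = 3) {P A B C : Kc ρ a b}
    (h : U ρ c = E ρ a b P A B C) : P = 0 :=
  (T.trichotomy hc h).elim And.left And.left

theorem good (c : G) (hc : orderOf c = 3) : Good ρ a b c :=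
  (em (c ∈ axes a b)).elim (fun h => Or.inl (axes_le_closure h))
    fun h => Or.inr (T.exists_normal hc h)

/-- The element in standard position and its square root of five are unique. -/
theorem normal_unique {c d : G} {S S' : Kc ρ a b} (h : IsNormal ρ a b c S)
    (h' : IsNormal ρ a b d S') : c = d ∧ S = S' := by
  obtain ⟨Q, A, B, C, hU⟩ := T.exists_E (U ρ (c * d * c⁻¹))
  have hQ : Q = (1 / 8 : ℚ) • (S * S' - S' * S) := by
    have e := hU
    rw [U_conj, h'.axis, T.map_E h.axis, T.map_E (T.inv_E h.hc h.axis), T.mul_E, T.mul_E] at e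
    rw [← (T.inj e).1]
    simp only [phi, psi, zero_sub, neg_zero, smul_zero, mul_zero, zero_mul, add_zero, sub_zero,
      zero_add, smul_add, smul_sub, smul_neg, smul_smul, neg_mul, mul_neg, sub_mul, mul_sub,
      add_mul, mul_add, smul_mul_assoc, mul_smul_comm, one_mul, mul_one, neg_neg, neg_add_rev]
    module
  rw [hQ] at hU
  have hcomm : S * S' = S' * S := sub_eq_zero.mp
    ((smul_eq_zero.mp (T.classify (T.conj_order c d h'.hc) hU)).resolve_left (by norm_num))
  have hX : (S * S') * (S * S') = (25 : ℚ) • 1 := by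
    rw [mul_assoc, ← mul_assoc S', ← hcomm, mul_assoc S, h'.sq, mul_smul_comm, mul_one,
      mul_smul_comm, h.sq, smul_smul]
    norm_num
  have hσ : sigma ρ c d = E ρ a b (-(1 + S * S')) 0 0 0 := by
    rw [T.sigma_E h.axis h'.axis]
    congr 1 <;>
      simp only [phi, psi, mul_zero, zero_mul, add_zero, zero_add, zero_sub, sub_zero, smul_add,
        smul_sub, sub_mul, mul_sub, add_mul, mul_add, smul_mul_assoc, mul_smul_comm, one_mul,
        mul_one, ← hcomm, smul_smul] <;> module
  have hscal : ∀ q : ℚ, sigma ρ c d = q • 1 → (q + 1) * (q + 1) = 25 := by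
    intro q hq
    rw [hσ, scalar_E (ρ := ρ) (a := a) (b := b)] at hq
    have e : S * S' = (-(q + 1)) • (1 : Kc ρ a b) := by
      linear_combination (norm := module) -(T.inj hq).1
    rw [e, smul_mul_smul_comm, one_mul, neg_mul_neg] at hX
    exact scal_inj hX
  rcases sigma_table T.fpf h.hc h'.hc with e | e | e | e | e
  · exact absurd (hscal _ e.2.2) (by norm_num)
  · obtain ⟨-, hdc, -⟩ := e
    subst hdc
    obtain ⟨-, -, hB, -⟩ := T.inj (h.axis.symm.trans h'.axis)
    refine ⟨rfl, ?_⟩
    rw [phi, phi] at hB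
    exact add_left_cancel (smul_right_injective _ (by norm_num : (1 / 2 : ℚ) ≠ 0) hB)
  · exact absurd (hscal _ e.2) (by norm_num)
  · exact absurd (hscal _ e.2) (by norm_num)
  · exfalso
    have e2 := e.2
    rw [hσ, T.mul_E, scalar_E (ρ := ρ) (a := a) (b := b)] at e2
    obtain ⟨e0, -, -, -⟩ := T.inj e2
    simp only [mul_zero, sub_zero, neg_mul_neg, add_mul, mul_add, one_mul, mul_one] at e0
    rw [hX] at e0
    have h2 : S * S' = (-3 : ℚ) • (1 : Kc ρ a b) := by
      linear_combination (norm := module) (1 / 2 : ℚ) • e0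
    rw [h2, smul_mul_smul_comm, one_mul] at hX
    exact absurd (scal_inj hX) (by norm_num)

end Pair

end CfsgLib.Perm.Zassenhaus
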