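import Mathlib

/-!
# A rational fixed-point-free representation from one in coprime characteristic

If a finite group `G` acts without nonzero fixed vectors on a vector space over the field with `p`
elements, `p` prime to `|G|`, then it does so on a nonzero rational vector space: a left ideal of
the group algebra over `ZMod p` lifts, as an idempotent, to every `ZMod (p ^ k)`.
-/

set_option autoImplicit false

namespace CfsgLib.Perm.Zassenhaus

open MonoidAlgebra Finset

variable {G : Type*} [Group G]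

/-- The sum of the powers of `h`. -/
noncomputable def cyc (R : Type*) [Semiring R] (h : G) : MonoidAlgebra R G :=
  ∑ i ∈ range (orderOf h), MonoidAlgebra.single (h ^ i) 1

theorem map_cyc {R S : Type*} [Semiring R] [Semiring S] (f : R →+* S) (h : G) :
    MonoidAlgebra.mapRingHom G f (cyc R h) = cyc S h := by
  simp [cyc, map_sum]

theorem single_mul_cyc {R : Type*} [Semiring R] (h : G) :
    MonoidAlgebra.single h (1 : R) * cyc R h = cyc R h := by
  simp only [cyc, mul_sum, single_mul_single, one_mul, ← pow_succ']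
  have key : ∀ n : ℕ, h ^ n = 1 →
      ∑ i ∈ range n, MonoidAlgebra.single (h ^ (i + 1)) (1 : R) =
        ∑ i ∈ range n, MonoidAlgebra.single (h ^ i) (1 : R) := by
    intro n hn
    cases n with
    | zero => simp
    | succ n => rw [sum_range_succ, sum_range_succ' (fun i => MonoidAlgebra.single (h ^ i) (1 : R)),
        hn, pow_zero]
  exact key _ (pow_orderOf_eq_one h)

theorem pow_mul_cyc {R : Type*} [Semiring R] (h : G) (i : ℕ) :
    MonoidAlgebra.single (h ^ i) (1 : R) * cyc R h = cyc R h := by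
  induction i with
  | zero => rw [pow_zero, ← MonoidAlgebra.one_def, one_mul]
  | succ i ih =>
    rw [show MonoidAlgebra.single (h ^ (i + 1)) (1 : R) =
      MonoidAlgebra.single (h ^ i) 1 * MonoidAlgebra.single h 1 by rw [single_mul_single, one_mul, pow_succ],
      mul_assoc, single_mul_cyc, ih]

theorem cyc_mul_cyc {R : Type*} [Semiring R] (h : G) :
    cyc R h * cyc R h = (orderOf h : ℕ) • cyc R h := by
  conv_lhs => arg 1; rw [cyc]
  rw [sum_mul]
  simp only [pow_mul_cyc, sum_const, card_range]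

variable [Finite G]

/-- The left ideal of an idempotent killed by all `cyc` over `ZMod p`, lifted modulo `p ^ k`. -/
theorem exists_idem {p : ℕ} [Fact p.Prime] (hp : ¬ p ∣ Nat.card G)
    (eb : MonoidAlgebra (ZMod p) G) (heb : IsIdempotentElem eb) (hne : eb ≠ 0)
    (hkill : ∀ h : G, h ≠ 1 → ∀ y, cyc (ZMod p) h * (y * eb) = 0) (k : ℕ) :
    ∃ e : MonoidAlgebra (ZMod (p ^ (k + 1))) G,
      (∃ g : G, IsUnit (e.coeff g)) ∧ ∀ h : G, h ≠ 1 → ∀ y, cyc _ h * (y * e) = 0 := by
  classical
  haveI := Fintype.ofFinite G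
  let R := ZMod (p ^ (k + 1))
  have hdvd : p ∣ p ^ (k + 1) := dvd_pow_self p (Nat.succ_ne_zero k)
  let φ : R →+* ZMod p := ZMod.castHom hdvd (ZMod p)
  have hφ : Function.Surjective φ := fun z => ⟨(z.val : R), by simp [φ]⟩
  have hφval : ∀ z : R, φ z = (z.val : ZMod p) := fun z => by rw [ZMod.natCast_val]; rfl
  let f : MonoidAlgebra R G →+* MonoidAlgebra (ZMod p) G := MonoidAlgebra.mapRingHom G φ
  have hker : ∀ x ∈ RingHom.ker f, ∃ w, x = p • w := by
    intro x hx
    have hc : ∀ g : G, ∃ c : R, x.coeff g = p • c := by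
      intro g
      have h0 : φ (x.coeff g) = 0 := by
        rw [← MonoidAlgebra.coeff_mapRingHom, show MonoidAlgebra.mapRingHom G φ x = 0 from hx]
        simp
      have h1 : ((x.coeff g).val : ZMod p) = 0 := by rwa [← hφval]
      obtain ⟨c, hc⟩ := (ZMod.natCast_eq_zero_iff _ _).mp h1
      exact ⟨(c : R), by rw [nsmul_eq_mul, ← Nat.cast_mul, ← hc, ZMod.natCast_zmod_val]⟩
    choose c hc using hc
    refine ⟨∑ g : G, MonoidAlgebra.single g (c g), ?_⟩
    ext g
    rw [MonoidAlgebra.coeff_smul, Finsupp.smul_apply, hc g]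
    congr 1
    simp [Finset.sum_apply', Finsupp.single_apply]
  have hnil : ∀ x ∈ RingHom.ker f, IsNilpotent x := by
    intro x hx
    obtain ⟨w, rfl⟩ := hker x hx
    refine ⟨k + 1, ?_⟩
    rw [smul_pow, nsmul_eq_mul, show ((p ^ (k + 1) : ℕ) : MonoidAlgebra R G) = 0 from ?_, zero_mul]
    rw [← map_natCast (MonoidAlgebra.singleOneRingHom (R := R) (M := G)), ZMod.natCast_self, map_zero]
  have hsurj : Function.Surjective f := by
    intro z
    choose c hc using fun g : G => hφ (z.coeff g)
    refine ⟨∑ g : G, MonoidAlgebra.single g (c g), ?_⟩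
    ext g
    simp [f, hc, Finset.sum_apply', Finsupp.single_apply]
  obtain ⟨e, he, hfe⟩ := exists_isIdempotentElem_eq_of_ker_isNilpotent f hnil eb (hsurj eb) heb
  refine ⟨e, ?_, fun h hh y => ?_⟩
  · by_contra hno
    push Not at hno
    apply hne
    rw [← hfe]
    ext g
    have := hno g
    simp only [f, MonoidAlgebra.coeff_mapRingHom, MonoidAlgebra.coeff_zero, Finsupp.coe_zero,
      Pi.zero_apply]
    by_contra hu
    apply this
    have h1 : ¬ p ∣ (e.coeff g).val := fun hd => hu (by
      have : ((e.coeff g).val : ZMod p) = 0 := (ZMod.natCast_eq_zero_iff _ _).mpr hd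
      rwa [hφval])
    have h2 := (ZMod.isUnit_iff_coprime (e.coeff g).val (p ^ (k + 1))).mpr
      (Nat.Coprime.pow_right _ (((Fact.out : p.Prime).coprime_iff_not_dvd.mpr h1).symm))
    rwa [ZMod.natCast_zmod_val] at h2
  · -- the image is divisible by every power of `p`
    set c := cyc R h
    have hn : IsUnit ((orderOf h : ℕ) : R) := by
      rw [ZMod.isUnit_iff_coprime]
      refine Nat.Coprime.pow_right _ (((Fact.out : p.Prime).coprime_iff_not_dvd.mpr fun hd => hp ?_).symm)
      exact hd.trans (orderOf_dvd_natCard h)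
    suffices key : ∀ j : ℕ, ∀ y, ∃ z, c * (y * e) = (p ^ j) • z by
      obtain ⟨z, hz⟩ := key (k + 1) y
      rw [hz, nsmul_eq_mul, ← map_natCast (MonoidAlgebra.singleOneRingHom (R := R) (M := G)),
        ZMod.natCast_self, map_zero, zero_mul]
    intro j
    induction j with
    | zero => exact fun y => ⟨c * (y * e), by rw [pow_zero, one_smul]⟩
    | succ j ih =>
      intro y
      obtain ⟨z, hz⟩ := ih y
      have h0 : f (c * (z * e)) = 0 := by
        rw [map_mul, map_mul, hfe, map_cyc]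
        exact hkill h hh _
      obtain ⟨w, hw⟩ := hker _ h0
      obtain ⟨u, hu⟩ := hn.exists_left_inv
      refine ⟨u • w, ?_⟩
      have h2 : (orderOf h : ℕ) • (c * (y * e)) = (p ^ (j + 1)) • w := by
        calc (orderOf h : ℕ) • (c * (y * e)) = c * c * (y * e) := by
              rw [cyc_mul_cyc, smul_mul_assoc]
          _ = c * (c * (y * e) * e) := by
              simp only [mul_assoc]
              rw [show e * e = e from he]
          _ = (p ^ j) • (c * (z * e)) := by rw [hz, smul_mul_assoc, mul_smul_comm]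
          _ = (p ^ (j + 1)) • w := by rw [hw, ← mul_smul, ← pow_succ]
      calc c * (y * e) = (u * ((orderOf h : ℕ) : R)) • (c * (y * e)) := by rw [hu, one_smul]
        _ = u • ((orderOf h : ℕ) • (c * (y * e))) := by rw [mul_smul, Nat.cast_smul_eq_nsmul]
        _ = (p ^ (j + 1)) • (u • w) := by rw [h2, smul_comm]

/-- The rational left ideal generated by all `cyc`. -/
noncomputable def cycIdeal (G : Type*) [Group G] : Submodule ℚ (MonoidAlgebra ℚ G) :=
  Submodule.span ℚ {x | ∃ (g g' h : G), h ≠ 1 ∧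
    x = MonoidAlgebra.single g 1 * cyc ℚ h * MonoidAlgebra.single g' 1}

theorem one_not_mem {p : ℕ} [Fact p.Prime] (hp : ¬ p ∣ Nat.card G)
    (eb : MonoidAlgebra (ZMod p) G) (heb : IsIdempotentElem eb) (hne : eb ≠ 0)
    (hkill : ∀ h : G, h ≠ 1 → ∀ y, cyc (ZMod p) h * (y * eb) = 0) :
    (1 : MonoidAlgebra ℚ G) ∉ cycIdeal G := by
  classical
  intro hmem
  let ι : MonoidAlgebra ℤ G →+* MonoidAlgebra ℚ G := MonoidAlgebra.mapRingHom G (Int.castRingHom ℚ)
  let T : Set (MonoidAlgebra ℤ G) := {x | ∃ (g g' h : G), h ≠ 1 ∧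
    x = MonoidAlgebra.single g 1 * cyc ℤ h * MonoidAlgebra.single g' 1}
  have key : ∀ x ∈ cycIdeal G,
      ∃ (m : ℕ) (w : MonoidAlgebra ℤ G), m ≠ 0 ∧ w ∈ AddSubgroup.closure T ∧ (m : ℚ) • x = ι w := by
    intro x hx
    induction hx using Submodule.span_induction with
    | mem x hx =>
      obtain ⟨g, g', h, hh, rfl⟩ := hx
      refine ⟨1, _, one_ne_zero, AddSubgroup.subset_closure ⟨g, g', h, hh, rfl⟩, ?_⟩
      rw [Nat.cast_one, one_smul, map_mul, map_mul, map_cyc]
      simp [ι]
    | zero => exact ⟨1, 0, one_ne_zero, zero_mem _, by simp⟩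
    | add x y _ _ hx hy =>
      obtain ⟨m, w, hm, hw, hx⟩ := hx
      obtain ⟨m', w', hm', hw', hy⟩ := hy
      refine ⟨m * m', m' • w + m • w', mul_ne_zero hm hm',
        add_mem (nsmul_mem hw _) (nsmul_mem hw' _), ?_⟩
      rw [map_add, map_nsmul, map_nsmul, ← hx, ← hy, smul_add, ← Nat.cast_smul_eq_nsmul ℚ,
        ← Nat.cast_smul_eq_nsmul ℚ, smul_smul, smul_smul, Nat.cast_mul]
      congr 2
      ring
    | smul r x _ hx =>
      obtain ⟨m, w, hm, hw, hx⟩ := hx
      refine ⟨m * r.den, r.num • w, mul_ne_zero hm r.den_nz, zsmul_mem hw _, ?_⟩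
      rw [map_zsmul, ← hx, ← Int.cast_smul_eq_zsmul ℚ, smul_smul, smul_smul, Nat.cast_mul,
        mul_assoc, mul_comm (r.den : ℚ) r, Rat.mul_den_eq_num, mul_comm]
  obtain ⟨m, w, hm, hw, hw1⟩ := key 1 hmem
  have hwm : w = (m : MonoidAlgebra ℤ G) := by
    have h1 : ι w = ι (m : MonoidAlgebra ℤ G) := by
      rw [map_natCast, ← hw1, Nat.cast_smul_eq_nsmul, nsmul_one]
    ext g
    have := congrArg (fun t => t.coeff g) h1
    simp only [ι, MonoidAlgebra.coeff_mapRingHom] at this
    exact Int.cast_injective this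
  obtain ⟨e, ⟨g0, hu⟩, hkill'⟩ := exists_idem hp eb heb hne hkill m
  let π : MonoidAlgebra ℤ G →+* MonoidAlgebra (ZMod (p ^ (m + 1))) G :=
    MonoidAlgebra.mapRingHom G (Int.castRingHom _)
  have h0 : ∀ x ∈ AddSubgroup.closure T, π x * e = 0 := by
    intro x hx
    induction hx using AddSubgroup.closure_induction with
    | mem x hx =>
      obtain ⟨g, g', h, hh, rfl⟩ := hx
      rw [map_mul, map_mul, map_cyc, mul_assoc, mul_assoc, hkill' h hh, mul_zero]
    | zero => rw [map_zero, zero_mul]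
    | add x y _ _ hx hy => rw [map_add, add_mul, hx, hy, add_zero]
    | neg x _ hx => rw [map_neg, neg_mul, hx, neg_zero]
  have h1 := h0 w hw
  rw [hwm, map_natCast, ← nsmul_eq_mul] at h1
  have h2 := congrArg (fun t => t.coeff g0) h1
  simp only [MonoidAlgebra.coeff_smul, Finsupp.smul_apply, MonoidAlgebra.coeff_zero,
    Finsupp.coe_zero, Pi.zero_apply] at h2
  rw [nsmul_eq_mul, hu.mul_left_eq_zero, ZMod.natCast_eq_zero_iff] at h2
  have h3 := Nat.le_of_dvd (Nat.pos_of_ne_zero hm) h2
  have h4 : m + 1 < p ^ (m + 1) := (m + 1).lt_pow_self (Fact.out : p.Prime).one_lt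
  omega

/-- A finite group with a fixed-point-free action in coprime characteristic has a rational one. -/
theorem exists_rational {p : ℕ} [Fact p.Prime] (hp : ¬ p ∣ Nat.card G) {V : Type*} [AddCommGroup V]
    [Module (ZMod p) V] [Nontrivial V] (σ : G →* Module.End (ZMod p) V)
    (hfix : ∀ g : G, g ≠ 1 → ∀ v : V, σ g v = v → v = 0) :
    ∃ (n : ℕ) (ρ : G →* Matrix (Fin n) (Fin n) ℚ), 0 < n ∧
      ∀ g : G, g ≠ 1 → IsUnit (ρ g - 1) := by
  classical
  haveI := Fintype.ofFinite G
  haveI : NeZero (Nat.card G : ZMod p) := ⟨fun h => hp ((ZMod.natCast_eq_zero_iff _ _).mp h)⟩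
  obtain ⟨v0, hv0⟩ := exists_ne (0 : V)
  let Φ : MonoidAlgebra (ZMod p) G →ₐ[ZMod p] Module.End (ZMod p) V :=
    MonoidAlgebra.lift _ _ _ σ
  have hΦs : ∀ g : G, Φ (MonoidAlgebra.single g 1) = σ g := fun g => by simp [Φ]
  have hΦc : ∀ h : G, h ≠ 1 → Φ (cyc (ZMod p) h) = 0 := by
    intro h hh
    refine LinearMap.ext fun v => hfix h hh _ ?_
    show (σ h * Φ (cyc (ZMod p) h)) v = _
    rw [← hΦs, ← map_mul, single_mul_cyc]
  let K : Submodule (MonoidAlgebra (ZMod p) G) (MonoidAlgebra (ZMod p) G) :=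
    { carrier := {x | Φ x v0 = 0}
      add_mem' := fun {a b} ha hb => by
        show Φ (a + b) v0 = 0
        rw [map_add, LinearMap.add_apply, show Φ a v0 = 0 from ha, show Φ b v0 = 0 from hb, add_zero]
      zero_mem' := by simp
      smul_mem' := fun c x hx => by
        show Φ (c * x) v0 = 0
        rw [map_mul, Module.End.mul_apply, show Φ x v0 = 0 from hx, map_zero] }
  haveI : IsSemisimpleModule (MonoidAlgebra (ZMod p) G) (MonoidAlgebra (ZMod p) G) := inferInstance
  obtain ⟨L, hL⟩ := exists_isCompl K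
  obtain ⟨y0, hy0, eb, heb', hsum⟩ := Submodule.mem_sup.mp
    (hL.sup_eq_top ▸ Submodule.mem_top : (1 : MonoidAlgebra (ZMod p) G) ∈ K ⊔ L)
  have hzero : ∀ x ∈ L, Φ x v0 = 0 → x = 0 := fun x hx h =>
    (Submodule.mem_bot _).mp (hL.inf_eq_bot ▸ Submodule.mem_inf.mpr ⟨h, hx⟩)
  have hidem : ∀ x ∈ L, x * eb = x := by
    intro x hx
    have h1 : x * y0 + x * eb = x := by rw [← mul_add, hsum, mul_one]
    have h2 : x * eb - x ∈ L := sub_mem (L.smul_mem x heb') hx
    refine sub_eq_zero.mp (hzero _ h2 ?_)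
    have h3 : x * eb - x = -(x * y0) := by rw [eq_neg_iff_add_eq_zero, sub_add_eq_add_sub, add_comm (x * eb), h1, sub_self]
    rw [h3]
    show Φ (-(x * y0)) v0 = 0
    rw [map_neg, LinearMap.neg_apply, map_mul, Module.End.mul_apply, show Φ y0 v0 = 0 from hy0,
      map_zero, neg_zero]
  have hne : eb ≠ 0 := by
    intro h
    rw [h, add_zero] at hsum
    have : Φ y0 v0 = 0 := hy0
    rw [hsum, map_one] at this
    exact hv0 this
  have hkill : ∀ h : G, h ≠ 1 → ∀ y, cyc (ZMod p) h * (y * eb) = 0 := fun h hh y =>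
    hzero _ (L.smul_mem _ (L.smul_mem y heb')) (by
      rw [map_mul, hΦc h hh, zero_mul, LinearMap.zero_apply])
  have hJ := one_not_mem hp eb (hidem eb heb') hne hkill
  set J := cycIdeal G with hJdef
  have hleft : ∀ a : G, J ≤ J.comap (LinearMap.mulLeft ℚ (MonoidAlgebra.single a (1 : ℚ))) := by
    intro a
    rw [hJdef, cycIdeal, Submodule.span_le]
    rintro _ ⟨g, g', h, hh, rfl⟩
    refine Submodule.subset_span ⟨a * g, g', h, hh, ?_⟩
    simp only [LinearMap.mulLeft_apply, ← mul_assoc, single_mul_single, mul_one]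
  haveI : Module.Finite ℚ (MonoidAlgebra ℚ G) := Module.Finite.of_basis (MonoidAlgebra.basis G ℚ)
  let M := MonoidAlgebra ℚ G ⧸ J
  haveI : Nontrivial M := Submodule.Quotient.nontrivial_iff.mpr fun h => hJ (h ▸ Submodule.mem_top)
  let τ : G →* Module.End ℚ M :=
    { toFun := fun a => J.mapQ J (LinearMap.mulLeft ℚ (MonoidAlgebra.single a 1)) (hleft a)
      map_one' := LinearMap.ext fun x => by
        obtain ⟨x, rfl⟩ := Submodule.Quotient.mk_surjective J x
        simp [← MonoidAlgebra.one_def]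
      map_mul' := fun a b => LinearMap.ext fun x => by
        obtain ⟨x, rfl⟩ := Submodule.Quotient.mk_surjective J x
        simp [← mul_assoc, single_mul_single] }
  have hτ : ∀ h : G, h ≠ 1 → ∀ x : M, τ h x = x → x = 0 := by
    intro h hh x
    obtain ⟨x, rfl⟩ := Submodule.Quotient.mk_surjective J x
    intro hx
    have hpow : ∀ i : ℕ, τ (h ^ i) (Submodule.Quotient.mk x) = Submodule.Quotient.mk x := by
      intro i
      induction i with
      | zero => rw [pow_zero, map_one]; rfl
      | succ i ih => rw [pow_succ, map_mul, Module.End.mul_apply, hx, ih]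
    have hmem : cyc ℚ h * x ∈ J := by
      rw [← MonoidAlgebra.sum_coeff_single x, Finsupp.sum, Finset.mul_sum]
      refine Submodule.sum_mem _ fun g' _ => ?_
      rw [show MonoidAlgebra.single g' (x.coeff g') = x.coeff g' • MonoidAlgebra.single g' (1 : ℚ) by simp,
        mul_smul_comm]
      refine J.smul_mem _ (Submodule.subset_span ⟨1, g', h, hh, ?_⟩)
      rw [← MonoidAlgebra.one_def, one_mul]
    have hc : (Submodule.Quotient.mk (cyc ℚ h * x) : M) = (orderOf h : ℕ) • Submodule.Quotient.mk x := by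
      rw [cyc, Finset.sum_mul, ← Submodule.mkQ_apply, map_sum]
      rw [Finset.sum_congr rfl (g := fun _ => (Submodule.Quotient.mk x : M)) fun i _ => ?_]
      · simp
      · exact hpow i
    rw [(Submodule.Quotient.mk_eq_zero _).mpr hmem, ← Nat.cast_smul_eq_nsmul ℚ] at hc
    exact (smul_eq_zero.mp hc.symm).resolve_left (Nat.cast_ne_zero.mpr (orderOf_pos h).ne')
  let b := Module.finBasis ℚ M
  refine ⟨_, (LinearMap.toMatrixAlgEquiv b).toMonoidHom.comp τ, Module.finrank_pos (R := ℚ) (M := M),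
    fun g hg => ?_⟩
  have hu : IsUnit (τ g - 1) := by
    rw [LinearMap.isUnit_iff_ker_eq_bot, LinearMap.ker_eq_bot']
    exact fun x hx => hτ g hg x (sub_eq_zero.mp hx)
  have := hu.map (LinearMap.toMatrixAlgEquiv b)
  rwa [map_sub, map_one] at this

end CfsgLib.Perm.Zassenhaus
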