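import Cfsg.Agent.Lib.Perm.Zassenhaus.Degrees

/-!
# Minimal non-abelian normal subgroups of regular linear groups

The subgroup is quaternion of order eight or `SL(2, 5)`, the space has dimension two, and the
centraliser consists of scalars.
-/

set_option autoImplicit false

namespace CfsgLib.Perm.Zassenhaus.Regular

open CfsgLib.Recognition.NearField CfsgLib.Perm.RegularLinear CfsgLib.Recognition.Zassenhaus

/-- A proper normal subgroup of a cover is central. -/
theorem eq_top_or_le_center {K : Type*} [Group K] [Finite K] (c : Cover K) (X : Subgroup K)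
    [X.Normal] : X = ⊤ ∨ X ≤ Subgroup.center K := by
  haveI : IsSimpleGroup (alternatingGroup (Fin 5)) := alternatingGroup.isSimpleGroup (by simp)
  haveI : (X.map c.f).Normal := Subgroup.Normal.map inferInstance _ c.surj
  rcases Subgroup.Normal.eq_bot_or_eq_top (inferInstance : (X.map c.f).Normal) with h | h
  · right
    intro x hx
    have hm : c.f x ∈ X.map c.f := ⟨x, hx, rfl⟩
    rw [h, Subgroup.mem_bot] at hm
    rcases c.ker x hm with rfl | rfl
    · exact Subgroup.one_mem _
    · exact Subgroup.mem_center_iff.mpr fun g => (c.central g).symm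
  · left
    rw [eq_top_iff, ← c.gen, Subgroup.closure_le]
    intro g hg
    have hm : c.f g ∈ X.map c.f := h ▸ Subgroup.mem_top _
    obtain ⟨x, hx, he⟩ := hm
    have hk : c.f (x⁻¹ * g) = 1 := by rw [map_mul, map_inv, he, inv_mul_cancel]
    rcases c.ker _ hk with e | e
    · rw [inv_mul_eq_one.mp e] at hx
      exact hx
    · have hg' : g = x * c.z := by rw [← e, mul_inv_cancel_left]
      have h3 : g * (g * g) = 1 := hg
      have hz : c.z = (x * (x * x))⁻¹ := by
        refine eq_inv_of_mul_eq_one_left ?_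
        have hc : Commute c.z x := c.central x
        calc c.z * (x * (x * x)) = c.z * c.z * c.z * (x * (x * x)) := by rw [c.z_sq, one_mul]
          _ = (x * c.z) * ((x * c.z) * (x * c.z)) := by
            simp only [mul_assoc, hc.eq, hc.left_comm]
          _ = 1 := by rw [← hg', h3]
      show g ∈ X
      rw [hg', hz]
      exact X.mul_mem hx (X.inv_mem (X.mul_mem hx (X.mul_mem hx hx)))

theorem not_comm_cover {K : Type*} [Group K] [Finite K] (c : Cover K) :
    ¬ Group.IsSolvable K := by
  obtain ⟨e⟩ := c.equiv_sl25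
  intro hs
  haveI := hs
  exact sl25_not_solvable (Group.isSolvable_of_surjective (f := e.toMonoidHom) e.surjective)

theorem cover_perfect {K : Type*} [Group K] [Finite K] (c : Cover K) : commutator K = ⊤ := by
  refine (eq_top_or_le_center c (commutator K)).resolve_right fun h => not_comm_cover c ?_
  haveI : IsMulCommutative (commutator K) :=
    ⟨⟨fun a b => Subtype.ext (Subgroup.mem_center_iff.mp (h b.2) a)⟩⟩
  haveI : Group.IsSolvable (commutator K) := Group.isSolvable_of_comm (fun a b => mul_comm' a b)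
  exact Group.isSolvable_of_ker_le_range (commutator K).subtype Abelianization.of
    (by rw [Abelianization.ker_of, Subgroup.range_subtype])

/-- A normal subgroup not containing a perfect cover centralises it. -/
theorem commute_of_not_le {G : Type*} [Group G] [Finite G] (K X : Subgroup G) [K.Normal] [X.Normal]
    (c : Cover K) (h : ¬ K ≤ X) {k x : G} (hk : k ∈ K) (hx : x ∈ X) : Commute x k := by
  have hcen : X.subgroupOf K ≤ Subgroup.center K :=
    (eq_top_or_le_center c _).resolve_left fun e => h (Subgroup.subgroupOf_eq_top.mp e)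
  have hmem : ∀ l : K, x * l * x⁻¹ * (l : G)⁻¹ ∈ K ⊓ X := fun l =>
    ⟨K.mul_mem (Subgroup.Normal.conj_mem inferInstance _ l.2 x) (K.inv_mem l.2), by
      rw [mul_assoc, mul_assoc]
      exact X.mul_mem hx (by
        rw [← mul_assoc]; exact Subgroup.Normal.conj_mem inferInstance _ (X.inv_mem hx) _)⟩
  let d : K → Subgroup.center K := fun l => ⟨⟨x * l * x⁻¹ * (l : G)⁻¹, (hmem l).1⟩,
    hcen (Subgroup.mem_subgroupOf.mpr (hmem l).2)⟩
  have hd : ∀ l m, d (l * m) = d l * d m := by
    intro l m
    apply Subtype.ext; apply Subtype.ext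
    show x * ((l : G) * m) * x⁻¹ * ((l : G) * m)⁻¹ =
      (x * l * x⁻¹ * (l : G)⁻¹) * (x * m * x⁻¹ * (m : G)⁻¹)
    have hc : (l : G)⁻¹ * (x * m * x⁻¹ * (m : G)⁻¹) = (x * m * x⁻¹ * (m : G)⁻¹) * (l : G)⁻¹ :=
      congrArg Subtype.val (Subgroup.mem_center_iff.mp (d m).2 l⁻¹)
    calc x * ((l : G) * m) * x⁻¹ * ((l : G) * m)⁻¹
        = (x * l * x⁻¹) * ((x * m * x⁻¹ * (m : G)⁻¹) * (l : G)⁻¹) := by group
      _ = _ := by rw [← hc]; group
  let φ : K →* Subgroup.center K := MonoidHom.mk' d hd
  have hker : commutator K ≤ φ.ker := by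
    rw [commutator_def, Subgroup.commutator_le]
    intro u _ w _
    rw [MonoidHom.mem_ker, map_commutatorElement, commutatorElement_eq_one_iff_mul_comm]
    exact Subtype.ext (Subgroup.mem_center_iff.mp (φ w).2 (φ u))
  rw [cover_perfect c] at hker
  have := congrArg (fun y : Subgroup.center K => ((y : K) : G))
    (MonoidHom.mem_ker.mp (hker (Subgroup.mem_top (⟨k, hk⟩ : K))))
  show x * k = k * x
  have e : x * k * x⁻¹ * k⁻¹ = 1 := this
  calc x * k = (x * k * x⁻¹ * k⁻¹) * (k * x) := by group
    _ = k * x := by rw [e, one_mul]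

variable {p : ℕ} [Fact p.Prime] {V : Type*} [AddCommGroup V] [Module (ZMod p) V] [Finite V]
  [Nontrivial V] {H : Subgroup (V ≃ₗ[ZMod p] V)}

theorem eq_sq_prime {r : ℕ} (hr : r.Prime) (h : Nat.card V = r ^ 2) :
    Module.finrank (ZMod p) V = 2 := by
  rw [Module.natCard_eq_pow_finrank (K := ZMod p), Nat.card_zmod] at h
  have hd : p ∣ r ^ 2 := h ▸ dvd_pow_self p Module.finrank_pos.ne'
  obtain rfl := (Nat.prime_dvd_prime_iff_eq (Fact.out : p.Prime) hr).mp
    ((Fact.out : p.Prime).dvd_of_dvd_pow hd)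
  exact Nat.pow_right_injective hr.two_le h

/-- Regular linear groups without irreducible cyclic normal subgroup are two-dimensional. -/
theorem finrank_eq_two (hreg : ∀ v w : V, v ≠ 0 → w ≠ 0 → ∃! h : H, (h : V ≃ₗ[ZMod p] V) v = w)
    (hI : ∀ A : Subgroup H, A.Normal → IsCyclic A →
      ∃ W : Submodule (ZMod p) V, W ≠ ⊥ ∧ W ≠ ⊤ ∧ ∀ a ∈ A, ∀ v ∈ W, ((a : H) : V ≃ₗ[ZMod p] V) v ∈ W) :
    Module.finrank (ZMod p) V = 2 := by
  classical
  haveI := finite_aut (p := p) (V := V)
  by_cases hs : Group.IsSolvable H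
  · haveI := hs
    have h := fpf hreg
    have hno : ∀ B : Subgroup H, B.Normal → IsCyclic B → Subgroup.centralizer (B : Set H) ≠ B :=
      fun B hn hc => by haveI := hn; exact centralizer_ne hreg hI B hc
    obtain ⟨B, -, hBn, hBc, hC | ⟨Q, -, hQn, ⟨e⟩⟩⟩ := dichotomy h (⊤ : Subgroup H)
    · exact absurd (by rw [top_inf_eq] at hC; exact hC) (hno B hBn hBc)
    · haveI := hQn
      rcases (case_quaternion h (card_eq hreg) hno e).1 with e' | e' | e' | e'
      · exact eq_sq_prime (r := 5) (by norm_num) (by rw [e']; norm_num)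
      · exact eq_sq_prime (r := 7) (by norm_num) (by rw [e']; norm_num)
      · exact eq_sq_prime (r := 11) (by norm_num) (by rw [e']; norm_num)
      · exact eq_sq_prime (r := 23) (by norm_num) (by rw [e']; norm_num)
  · rcases classify H hreg hs with ⟨e', -⟩ | ⟨e', -⟩ | ⟨e', -⟩
    · exact eq_sq_prime (r := 11) (by norm_num) (by rw [e']; norm_num)
    · exact eq_sq_prime (r := 29) (by norm_num) (by rw [e']; norm_num)
    · exact eq_sq_prime (r := 59) (by norm_num) (by rw [e']; norm_num)

/-- In dimension two the centraliser of a non-abelian subgroup consists of scalars. -/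
theorem scalar_of_commute (h2 : Module.finrank (ZMod p) V = 2) {N : Subgroup H}
    (hN : ¬ IsMulCommutative N) {g : H} (hg : ∀ n ∈ N, g * n = n * g) :
    ∃ c : ZMod p, ∀ v : V, rep H g v = c • v := by
  classical
  by_contra hno
  set T := rep H g with hT
  obtain ⟨v, hv⟩ : ∃ v, LinearIndependent (ZMod p) ![v, T v] := by
    by_contra hnv
    push Not at hnv
    apply hno
    obtain ⟨c, hc⟩ := LinearMap.exists_eq_smul_id_of_forall_notLinearIndependent (f := T) hnv
      |> fun h => h
    exact ⟨c, fun v => by rw [hc]; rfl⟩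
  let b := basisOfLinearIndependentOfCardEqFinrank hv (by rw [Fintype.card_fin, h2])
  have hb : ∀ i, b i = ![v, T v] i := fun i => by rw [coe_basisOfLinearIndependentOfCardEqFinrank]
  have h0 : b 0 = v := hb 0
  have h1 : b 1 = T v := hb 1
  have key : ∀ n : H, n ∈ N → ∃ x y : ZMod p, rep H n = x • (1 : Module.End (ZMod p) V) + y • T := by
    intro n hn
    obtain ⟨x, y, hsum⟩ : ∃ x y : ZMod p, rep H n v = x • v + y • T v :=
      ⟨_, _, by conv_lhs => rw [← b.sum_repr (rep H n v), Fin.sum_univ_two, h0, h1]⟩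
    refine ⟨x, y, b.ext ?_⟩
    rw [Fin.forall_fin_two, h0, h1]
    refine ⟨hsum, ?_⟩
    have hc : rep H n (T v) = T (rep H n v) := by
      show (rep H n * rep H g) v = (rep H g * rep H n) v
      rw [← map_mul, ← map_mul, hg n hn]
    rw [hc, hsum, map_add, map_smul, map_smul]
    rfl
  apply hN
  refine ⟨⟨fun m n => ?_⟩⟩
  obtain ⟨x, y, hm⟩ := key m m.2
  obtain ⟨x', y', hn⟩ := key n n.2
  apply Subtype.ext
  apply Subtype.ext
  apply LinearEquiv.toLinearMap_injective
  show rep H ((m : H) * n) = rep H ((n : H) * m)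
  rw [map_mul, map_mul, hm, hn]
  simp only [add_mul, mul_add, smul_mul_assoc, mul_smul_comm, one_mul, mul_one]
  module

/-- A non-abelian subgroup of a two-dimensional regular group is irreducible. -/
theorem irreducible (hreg : ∀ v w : V, v ≠ 0 → w ≠ 0 → ∃! h : H, (h : V ≃ₗ[ZMod p] V) v = w)
    (h2 : Module.finrank (ZMod p) V = 2) {N : Subgroup H} (hN : ¬ IsMulCommutative N)
    (W : Submodule (ZMod p) V) (hW : ∀ n ∈ N, ∀ v ∈ W, ((n : H) : V ≃ₗ[ZMod p] V) v ∈ W) :
    W = ⊥ ∨ W = ⊤ := by
  by_contra hne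
  rw [not_or] at hne
  obtain ⟨hW0, hW1⟩ := hne
  have hlt := Submodule.finrank_lt hW1
  have h1 : Module.finrank (ZMod p) W = 1 := by
    have : Module.finrank (ZMod p) W ≠ 0 := fun e => hW0 (Submodule.finrank_eq_zero.mp e)
    omega
  obtain ⟨w, hw0, hspan⟩ := finrank_eq_one_iff'.mp h1
  have hw : (w : V) ≠ 0 := fun e => hw0 (Subtype.ext e)
  have key : ∀ n ∈ N, ∃ c : ZMod p, rep H n w = c • (w : V) := fun n hn => by
    obtain ⟨c, hc⟩ := hspan ⟨_, hW n hn _ w.2⟩
    exact ⟨c, (congrArg Subtype.val hc).symm⟩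
  apply hN
  refine ⟨⟨fun m n => Subtype.ext ?_⟩⟩
  obtain ⟨c, hc⟩ := key m m.2
  obtain ⟨d, hd⟩ := key n n.2
  refine (hreg w (rep H ((n : H) * m) w) hw ?_).unique ?_ rfl
  · rw [map_mul, Module.End.mul_apply, hc, map_smul, hd]
    intro e
    rcases smul_eq_zero.mp e with e | e
    · rw [e, zero_smul] at hc
      exact hw ((LinearEquiv.map_eq_zero_iff _).mp hc)
    · rcases smul_eq_zero.mp e with e | e
      · rw [e, zero_smul] at hd
        exact hw ((LinearEquiv.map_eq_zero_iff _).mp hd)
      · exact hw e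
  · show rep H ((m : H) * n) w = rep H ((n : H) * m) w
    rw [map_mul, map_mul, Module.End.mul_apply, Module.End.mul_apply, hc, hd, map_smul, map_smul,
      hc, hd, smul_comm]

/-- The centraliser of a non-abelian normal subgroup below `C(A)` is `A`. -/
theorem centralizer_eq_max (h2 : Module.finrank (ZMod p) V = 2) (A : Subgroup H)
    (hAmax : ∀ B : Subgroup H, B.Normal → IsMulCommutative B → A ≤ B → B = A) (N : Subgroup H)
    [N.Normal] (hNle : N ≤ Subgroup.centralizer (A : Set H)) (hN : ¬ IsMulCommutative N) :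
    Subgroup.centralizer (N : Set H) = A := by
  have hle : A ≤ Subgroup.centralizer (N : Set H) := fun a ha =>
    Subgroup.mem_centralizer_iff.mpr fun n hn => (Subgroup.mem_centralizer_iff.mp (hNle hn) a ha).symm
  refine hAmax _ inferInstance ⟨⟨fun x y => Subtype.ext (Subtype.ext
    (LinearEquiv.toLinearMap_injective ?_))⟩⟩ hle
  obtain ⟨c, hc⟩ := scalar_of_commute h2 hN
    fun n hn => (Subgroup.mem_centralizer_iff.mp x.2 n hn).symm
  obtain ⟨d, hd⟩ := scalar_of_commute h2 hN
    fun n hn => (Subgroup.mem_centralizer_iff.mp y.2 n hn).symm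
  refine LinearMap.ext fun v => ?_
  show rep H ((x : H) * y) v = rep H ((y : H) * x) v
  rw [map_mul, map_mul, Module.End.mul_apply, Module.End.mul_apply, hc, hd, hc, hd, smul_comm]

/-- The minimal non-abelian normal subgroups. -/
theorem minimal_cases (hreg : ∀ v w : V, v ≠ 0 → w ≠ 0 → ∃! h : H, (h : V ≃ₗ[ZMod p] V) v = w)
    (hI : ∀ A : Subgroup H, A.Normal → IsCyclic A →
      ∃ W : Submodule (ZMod p) V, W ≠ ⊥ ∧ W ≠ ⊤ ∧ ∀ a ∈ A, ∀ v ∈ W, ((a : H) : V ≃ₗ[ZMod p] V) v ∈ W)
    (A : Subgroup H) [A.Normal] (hAc : IsMulCommutative A)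
    (hAmax : ∀ B : Subgroup H, B.Normal → IsMulCommutative B → A ≤ B → B = A) (N : Subgroup H)
    [N.Normal] (hNle : N ≤ Subgroup.centralizer (A : Set H)) (hNna : ¬ IsMulCommutative N)
    (hNmin : ∀ M : Subgroup H, M.Normal → M ≤ N → ¬ IsMulCommutative M → M = N) :
    Nonempty (N ≃* QuaternionGroup 2) ∨
      Nonempty (N ≃* Matrix.SpecialLinearGroup (Fin 2) (ZMod 5)) := by
  classical
  haveI := finite_aut (p := p) (V := V)
  have h := fpf hreg
  by_cases hs : Group.IsSolvable H
  · haveI := hs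
    obtain ⟨B, hBN, hBn, hBc, hor⟩ := dichotomy h N
    rcases hor with hC | ⟨Q, hQN, hQn, ⟨e⟩⟩
    · exfalso
      haveI := hBn
      haveI := hBc
      have hcomm : ∀ a ∈ A, ∀ b ∈ B, a * b = b * a := fun a ha b hb =>
        Subgroup.mem_centralizer_iff.mp (hNle (hBN hb)) a ha
      have hBB : ∀ b ∈ B, ∀ b' ∈ B, b * b' = b' * b := fun b hb b' hb' =>
        congrArg Subtype.val (IsCyclic.commGroup.mul_comm (⟨b, hb⟩ : B) ⟨b', hb'⟩)
      have hBA : B ≤ A := by
        have : A ⊔ B = A := by
          refine hAmax _ inferInstance ⟨⟨fun x y => Subtype.ext ?_⟩⟩ le_sup_left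
          obtain ⟨a, ha, b, hb, hx⟩ := Subgroup.mem_sup_of_normal_left.mp x.2
          obtain ⟨a', ha', b', hb', hy⟩ := Subgroup.mem_sup_of_normal_left.mp y.2
          show (x : H) * y = y * x
          rw [← hx, ← hy]
          have c1 : Commute a a' := congrArg Subtype.val (hAc.is_comm.comm (⟨a, ha⟩ : A) ⟨a', ha'⟩)
          have c2 : Commute a b' := hcomm a ha b' hb'
          have c3 : Commute b a' := (hcomm a' ha' b hb).symm
          have c4 : Commute b b' := hBB b hb b' hb'
          exact ((c1.mul_right c2).mul_left (c3.mul_right c4)).eq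
        exact this ▸ le_sup_right
      have hNC : N ≤ N ⊓ Subgroup.centralizer (B : Set H) := fun n hn =>
        ⟨hn, Subgroup.mem_centralizer_iff.mpr fun b hb =>
          Subgroup.mem_centralizer_iff.mp (hNle hn) b (hBA hb)⟩
      rw [hC] at hNC
      exact hNna ⟨⟨fun x y => Subtype.ext (hBB x (hNC x.2) y (hNC y.2))⟩⟩
    · left
      have hQna : ¬ IsMulCommutative Q := fun hc => by
        have h1 : ∀ u v : QuaternionGroup 2, u * v = v * u := fun u v => e.symm.injective (by
          rw [map_mul, map_mul]; exact hc.is_comm.comm _ _)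
        exact absurd (h1 (QuaternionGroup.a 1) (QuaternionGroup.xa 0)) (by decide)
      rw [hNmin Q hQn hQN hQna] at e
      exact ⟨e⟩
  · right
    obtain ⟨K, M, hKn, -, ⟨c⟩, -⟩ := structure_of_rep h hs
    haveI := hKn
    have hKna : ¬ IsMulCommutative K := fun hc =>
      not_comm_cover c (Group.isSolvable_of_comm fun a b => hc.is_comm.comm a b)
    have hKA : K ≤ Subgroup.centralizer (A : Set H) := by
      have hKnot : ¬ K ≤ A := fun hle => hKna ⟨⟨fun a b => by
        apply Subtype.ext
        exact (congrArg Subtype.val (hAc.is_comm.comm (⟨(a : H), hle a.2⟩ : A) ⟨(b : H), hle b.2⟩) :)⟩⟩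
      exact fun k hk => Subgroup.mem_centralizer_iff.mpr fun a ha =>
        (commute_of_not_le K A c hKnot hk ha).eq
    have hKN : K ≤ N := by
      by_contra hnot
      apply hNna
      have h2 := finrank_eq_two hreg hI
      have hC := centralizer_eq_max h2 A hAmax K hKA hKna
      refine ⟨⟨fun x y => Subtype.ext ?_⟩⟩
      have hx : ∀ z : N, (z : H) ∈ A := fun z => by
        rw [← hC]
        exact Subgroup.mem_centralizer_iff.mpr fun k hk => (commute_of_not_le K N c hnot hk z.2).eq.symm
      exact (congrArg Subtype.val (hAc.is_comm.comm (⟨(x : H), hx x⟩ : A) ⟨(y : H), hx y⟩) :)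
    rw [← hNmin K hKn hKN hKna]
    exact c.equiv_sl25

end CfsgLib.Perm.Zassenhaus.Regular
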