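import Mathlib

/-!
# Products of two elements of order three in a fixed-point-free rational representation

The eigenvalue `λ` of the product `a * c` in a unitary representation satisfies `Re λ ≥ -1/2`; as
all primitive roots of unity occur, `a * c` has order 1, 3, 4, 6 or 10.
-/

set_option autoImplicit false

namespace CfsgLib.Perm.Zassenhaus

open Matrix Finset Polynomial

variable {G : Type*} [Group G] {n : ℕ} [NeZero n] {ρ : G →* Matrix (Fin n) (Fin n) ℚ}
  (hρ : ∀ g : G, g ≠ 1 → IsUnit (ρ g - 1))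

include hρ

theorem eq_one_of_map_eq {g : G} (h : ρ g = 1) : g = 1 := by
  by_contra hg
  have := hρ g hg
  rw [h, sub_self] at this
  exact not_isUnit_zero this

theorem map_injective : Function.Injective ρ := by
  intro a b h
  have : ρ (a * b⁻¹) = 1 := by rw [map_mul, h, ← map_mul, mul_inv_cancel, map_one]
  exact eq_of_mul_inv_eq_one (eq_one_of_map_eq hρ this)

theorem map_involution {z : G} (hz : z * z = 1) (hz1 : z ≠ 1) : ρ z = -1 := by
  have h : (ρ z - 1) * (ρ z + 1) = 0 := by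
    rw [sub_mul, mul_add, mul_one, one_mul, ← map_mul, hz, map_one]; abel
  exact eq_neg_of_add_eq_zero_left ((hρ z hz1).mul_right_eq_zero.mp h)

theorem involution_unique {z y : G} (hz : z * z = 1) (hz1 : z ≠ 1) (hy : y * y = 1) (hy1 : y ≠ 1) :
    z = y :=
  map_injective hρ ((map_involution hρ hz hz1).trans (map_involution hρ hy hy1).symm)

theorem cubic {a : G} (ha : orderOf a = 3) : ρ a * ρ a + ρ a + 1 = 0 := by
  have h3 : ρ a * ρ a * ρ a = 1 := by
    rw [← map_mul, ← map_mul, ← pow_two, ← pow_succ, show 2 + 1 = orderOf a from ha.symm,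
      pow_orderOf_eq_one, map_one]
  have ha1 : a ≠ 1 := fun e => by simp [e] at ha
  refine (hρ a ha1).mul_right_eq_zero.mp ?_
  have : (ρ a - 1) * (ρ a * ρ a + ρ a + 1) = ρ a * ρ a * ρ a - 1 := by noncomm_ring
  rw [this, h3, sub_self]

omit hρ in
/-- The element `2 a + 1`, a square root of `-3` when `a` has order three. -/
def U (ρ : G →* Matrix (Fin n) (Fin n) ℚ) (a : G) : Matrix (Fin n) (Fin n) ℚ := 2 * ρ a + 1

omit hρ in
/-- The anticommutator of two axes. -/
def sigma (ρ : G →* Matrix (Fin n) (Fin n) ℚ) (a c : G) : Matrix (Fin n) (Fin n) ℚ :=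
  U ρ a * U ρ c + U ρ c * U ρ a

theorem U_sq {a : G} (ha : orderOf a = 3) : U ρ a * U ρ a = -3 := by
  have h := cubic hρ ha
  rw [U]
  linear_combination (norm := (noncomm_ring; norm_num)) 4 * h

theorem map_inv_of_order_three {a : G} (ha : orderOf a = 3) : ρ a⁻¹ = -ρ a - 1 := by
  have : a⁻¹ = a * a := by
    apply inv_eq_of_mul_eq_one_right
    rw [← mul_assoc, ← pow_two, ← pow_succ, show 2 + 1 = orderOf a from ha.symm, pow_orderOf_eq_one]
  rw [this, map_mul]
  linear_combination (norm := noncomm_ring) cubic hρ ha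

theorem U_eq_sub {a : G} (ha : orderOf a = 3) : U ρ a = ρ a - ρ a⁻¹ := by
  rw [U, map_inv_of_order_three hρ ha]; noncomm_ring

theorem U_inv {a : G} (ha : orderOf a = 3) : U ρ a⁻¹ = -U ρ a := by
  rw [U_eq_sub hρ (by rwa [orderOf_inv]), U_eq_sub hρ ha, inv_inv]; abel

/-- The anticommutator in terms of the product. -/
theorem sigma_eq {a c : G} (ha : orderOf a = 3) (hc : orderOf c = 3) :
    sigma ρ a c = 4 * (ρ (a * c) + ρ (a * c)⁻¹) - 2 := by
  rw [_root_.mul_inv_rev, map_mul, map_mul, map_inv_of_order_three hρ ha, map_inv_of_order_three hρ hc,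
    sigma, U, U]
  noncomm_ring
  norm_num
  rw [show (4 : Matrix (Fin n) (Fin n) ℚ) = 2 + 2 by norm_num]
  abel

theorem sigma_commute_left {a c : G} (ha : orderOf a = 3) : Commute (U ρ a) (sigma ρ a c) := by
  have h := U_sq hρ ha
  show U ρ a * sigma ρ a c = sigma ρ a c * U ρ a
  rw [sigma, mul_add, add_mul, ← mul_assoc (U ρ a) (U ρ a), h, mul_assoc (U ρ c), h]
  noncomm_ring

theorem sigma_commute_right {a c : G} (hc : orderOf c = 3) : Commute (U ρ c) (sigma ρ a c) := by
  rw [sigma, add_comm]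
  exact sigma_commute_left hρ hc

theorem commute_U_iff {g a : G} : Commute (ρ g) (U ρ a) ↔ Commute g a := by
  constructor
  · intro h
    apply map_injective hρ
    rw [map_mul, map_mul]
    have h2 : ρ g * U ρ a = U ρ a * ρ g := h
    rw [U, mul_add, add_mul, mul_one, one_mul, add_left_inj] at h2
    have h3 : (2 : ℚ) • (ρ g * ρ a) = (2 : ℚ) • (ρ a * ρ g) := by
      rw [two_smul, two_smul]
      linear_combination (norm := noncomm_ring) h2
    exact smul_right_injective _ (two_ne_zero : (2 : ℚ) ≠ 0) h3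
  · intro h
    exact ((Commute.ofNat_right _ 2).mul_right (h.map ρ)).add_right (Commute.one_right _)

section Complex

variable [Finite G]

omit hρ in
/-- The representation over the complex numbers. -/
noncomputable def cpx (ρ : G →* Matrix (Fin n) (Fin n) ℚ) : G →* Matrix (Fin n) (Fin n) ℂ :=
  ((algebraMap ℚ ℂ).mapMatrix : Matrix (Fin n) (Fin n) ℚ →+* _).toMonoidHom.comp ρ

omit hρ [NeZero n] in
theorem cpx_apply (g : G) : cpx ρ g = (algebraMap ℚ ℂ).mapMatrix (ρ g) := rfl

/-- Every primitive root of unity of the right order is an eigenvalue. -/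
theorem exists_eigen {w : G} {ζ : ℂ} (hζ : IsPrimitiveRoot ζ (orderOf w)) :
    ∃ ψ : Fin n → ℂ, ψ ≠ 0 ∧ cpx ρ w *ᵥ ψ = ζ • ψ := by
  have hN : 0 < orderOf w := orderOf_pos w
  set N := orderOf w with hNdef
  have hint : IsIntegral ℚ (ρ w) := Algebra.IsIntegral.isIntegral _
  have hd : minpoly ℚ (ρ w) ∣ cyclotomic N ℚ := by
    refine minpoly.dvd _ _ ?_
    have h1 : aeval (ρ w) (∏ d ∈ N.divisors, cyclotomic d ℚ) = 0 := by
      rw [prod_cyclotomic_eq_X_pow_sub_one hN, map_sub, aeval_X_pow, map_one, ← map_pow,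
        hNdef, pow_orderOf_eq_one, map_one, sub_self]
    rw [← Finset.mul_prod_erase _ _ (Nat.mem_divisors_self N hN.ne'), mul_comm, map_mul] at h1
    refine (IsUnit.mul_right_eq_zero ?_).mp h1
    refine Finset.prod_induction _ (fun q => IsUnit (aeval (ρ w) q))
      (fun p q hp hq => by rw [map_mul]; exact hp.mul hq) (by simp) fun d hd => ?_
    obtain ⟨hdN, hdd⟩ := Finset.mem_erase.mp hd
    have hdpos : 0 < d := Nat.pos_of_mem_divisors hdd
    have hlt : d < N := lt_of_le_of_ne (Nat.divisor_le hdd) hdN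
    have hu : IsUnit (aeval (ρ w) (X ^ d - 1 : ℚ[X])) := by
      rw [map_sub, aeval_X_pow, map_one, ← map_pow]
      exact hρ _ (pow_ne_one_of_lt_orderOf hdpos.ne' hlt)
    obtain ⟨r, hr⟩ := cyclotomic.dvd_X_pow_sub_one d ℚ
    rw [hr, map_mul] at hu
    have hcomm : Commute (aeval (ρ w) (cyclotomic d ℚ)) (aeval (ρ w) r) :=
      (Commute.all _ _).map (aeval (ρ w))
    exact (hcomm.isUnit_mul_iff.mp hu).1
  have hirr := cyclotomic.irreducible_rat hN
  have hass := (hirr.dvd_iff.mp hd).resolve_left (minpoly.not_isUnit _ _)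
  have hdc : cyclotomic N ℚ ∣ (ρ w).charpoly :=
    hass.dvd.trans (Matrix.minpoly_dvd_charpoly (ρ w))
  have hroot : ((ρ w).charpoly.map (algebraMap ℚ ℂ)).IsRoot ζ := by
    obtain ⟨r, hr⟩ := hdc
    rw [hr, Polynomial.map_mul, map_cyclotomic]
    exact Polynomial.root_mul_right_of_isRoot _ (IsPrimitiveRoot.isRoot_cyclotomic hN hζ)
  rw [← Matrix.charpoly_map, IsRoot.def, Matrix.eval_charpoly] at hroot
  obtain ⟨ψ, hψ, h0⟩ := Matrix.exists_mulVec_eq_zero_iff.mpr hroot
  refine ⟨ψ, hψ, ?_⟩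
  rw [Matrix.sub_mulVec, sub_eq_zero] at h0
  rw [cpx_apply, RingHom.mapMatrix_apply, ← h0]
  simp [Matrix.scalar_apply, funext_iff, Matrix.mulVec_diagonal]

omit hρ [NeZero n] in
/-- The invariant form. -/
noncomputable def form [Fintype G] (ρ : G →* Matrix (Fin n) (Fin n) ℚ) (x y : Fin n → ℂ) : ℂ :=
  ∑ g : G, star (cpx ρ g *ᵥ x) ⬝ᵥ (cpx ρ g *ᵥ y)

omit hρ [NeZero n] [Finite G] in
theorem form_invariant [Fintype G] (b : G) (x y : Fin n → ℂ) :
    form ρ (cpx ρ b *ᵥ x) y = form ρ x (cpx ρ b⁻¹ *ᵥ y) := by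
  unfold form
  refine Fintype.sum_equiv (Equiv.mulRight b) _ _ fun g => ?_
  simp only [Equiv.coe_mulRight, Matrix.mulVec_mulVec, ← map_mul, mul_inv_cancel_right]

omit hρ [NeZero n] [Finite G] in
theorem form_sub_left [Fintype G] (x x' y : Fin n → ℂ) :
    form ρ (x - x') y = form ρ x y - form ρ x' y := by
  simp [form, Matrix.mulVec_sub, sub_dotProduct, Finset.sum_sub_distrib]

omit hρ [NeZero n] [Finite G] in
theorem form_sub_right [Fintype G] (x y y' : Fin n → ℂ) :
    form ρ x (y - y') = form ρ x y - form ρ x y' := by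
  simp [form, Matrix.mulVec_sub, dotProduct_sub, Finset.sum_sub_distrib]

omit hρ [NeZero n] [Finite G] in
theorem form_smul_right [Fintype G] (c : ℂ) (x y : Fin n → ℂ) :
    form ρ x (c • y) = c * form ρ x y := by
  simp [form, Matrix.mulVec_smul, dotProduct_smul, Finset.mul_sum]

omit hρ [NeZero n] [Finite G] in
theorem form_self [Fintype G] (x : Fin n → ℂ) :
    form ρ x x = ((∑ g : G, ∑ i, Complex.normSq ((cpx ρ g *ᵥ x) i) : ℝ) : ℂ) := by
  simp [form, dotProduct, ← Complex.normSq_eq_conj_mul_self]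

omit hρ [NeZero n] [Finite G] in
theorem form_pos [Fintype G] {x : Fin n → ℂ} (hx : x ≠ 0) :
    0 < (∑ g : G, ∑ i, Complex.normSq ((cpx ρ g *ᵥ x) i) : ℝ) := by
  obtain ⟨i, hi⟩ := Function.ne_iff.mp hx
  refine Finset.sum_pos' (fun g _ => Finset.sum_nonneg fun i _ => Complex.normSq_nonneg _)
    ⟨1, Finset.mem_univ _, ?_⟩
  refine Finset.sum_pos' (fun i _ => Complex.normSq_nonneg _) ⟨i, Finset.mem_univ _, ?_⟩
  rw [map_one, Matrix.one_mulVec]
  exact Complex.normSq_pos.mpr hi

omit [Finite G] in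
theorem norm_diff [Fintype G] {a c : G} (ha : orderOf a = 3) (hc : orderOf c = 3) (x : Fin n → ℂ) :
    form ρ (((algebraMap ℚ ℂ).mapMatrix (U ρ a - U ρ c)) *ᵥ x)
        (((algebraMap ℚ ℂ).mapMatrix (U ρ a - U ρ c)) *ᵥ x) =
      form ρ x (((algebraMap ℚ ℂ).mapMatrix (6 + sigma ρ a c)) *ᵥ x) := by
  have hM : (algebraMap ℚ ℂ).mapMatrix (U ρ a - U ρ c) =
      (cpx ρ a - cpx ρ a⁻¹) - (cpx ρ c - cpx ρ c⁻¹) := by
    simp [U_eq_sub hρ ha, U_eq_sub hρ hc, map_sub, cpx_apply]
  set y := (algebraMap ℚ ℂ).mapMatrix (U ρ a - U ρ c) *ᵥ x with hy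
  have hsq : (algebraMap ℚ ℂ).mapMatrix (6 + sigma ρ a c) *ᵥ x =
      -((algebraMap ℚ ℂ).mapMatrix (U ρ a - U ρ c) *ᵥ y) := by
    rw [hy, Matrix.mulVec_mulVec, ← map_mul, ← Matrix.neg_mulVec, ← map_neg]
    congr 2
    rw [sigma]
    linear_combination (norm := (noncomm_ring; norm_num)) U_sq hρ ha + U_sq hρ hc
  rw [hsq]
  nth_rewrite 1 [hy]
  rw [hM]
  simp only [Matrix.sub_mulVec, form_sub_left, form_invariant, inv_inv, neg_sub, form_sub_right]
  ring

theorem order_cases {a c : G} (ha : orderOf a = 3) (hc : orderOf c = 3) :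
    orderOf (a * c) ∈ ({1, 3, 4, 6, 10} : Finset ℕ) := by
  classical
  haveI := Fintype.ofFinite G
  by_contra hmem
  set N := orderOf (a * c) with hN
  have hN0 : 0 < N := orderOf_pos _
  simp only [Finset.mem_insert, Finset.mem_singleton, not_or] at hmem
  obtain ⟨k, hk, h3, h3'⟩ : ∃ k : ℕ, Nat.Coprime k N ∧ N < 3 * k ∧ 3 * k < 2 * N := by
    obtain ⟨m, hm | hm⟩ := Nat.even_or_odd' N
    · obtain ⟨l, hl | hl⟩ := Nat.even_or_odd' m
      · refine ⟨2 * l - 1, ?_, by omega, by omega⟩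
        have hodd : ¬ 2 ∣ 2 * l - 1 := by omega
        refine Nat.coprime_of_dvd fun q hq hq1 hq2 => ?_
        have : q ∣ 2 := by
          rw [show 2 = N - 2 * (2 * l - 1) by omega]
          exact Nat.dvd_sub hq2 (dvd_mul_of_dvd_right hq1 2)
        rw [(Nat.prime_dvd_prime_iff_eq hq Nat.prime_two).mp this] at hq1
        exact hodd hq1
      · rcases Nat.eq_zero_or_pos l with hl0 | hl0
        · exact ⟨1, Nat.coprime_one_left _, by omega, by omega⟩
        refine ⟨2 * l - 1, ?_, by omega, by omega⟩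
        have hodd : ¬ 2 ∣ 2 * l - 1 := by omega
        refine Nat.coprime_of_dvd fun q hq hq1 hq2 => ?_
        have : q ∣ 2 ^ 2 := by
          rw [show 2 ^ 2 = N - 2 * (2 * l - 1) by omega]
          exact Nat.dvd_sub hq2 (dvd_mul_of_dvd_right hq1 2)
        rw [(Nat.prime_dvd_prime_iff_eq hq Nat.prime_two).mp (hq.dvd_of_dvd_pow this)] at hq1
        exact hodd hq1
    · refine ⟨m, ?_, by omega, by omega⟩
      rw [hm, mul_comm, Nat.coprime_mul_left_add_right]
      exact Nat.coprime_one_right _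
  have hζ := Complex.isPrimitiveRoot_exp_of_coprime k N hN0.ne' hk
  obtain ⟨ψ, hψ, he⟩ := exists_eigen hρ hζ
  set θ : ℝ := 2 * Real.pi * ((k : ℝ) / N) with hθ
  set ζ := Complex.exp (2 * Real.pi * Complex.I * ((k : ℂ) / N)) with hζdef
  have hζexp : ζ = Complex.exp (θ * Complex.I) := by
    rw [hζdef, hθ]; congr 1; push_cast; ring
  have hζ0 : ζ ≠ 0 := Complex.exp_ne_zero _
  have he' : cpx ρ (a * c)⁻¹ *ᵥ ψ = ζ⁻¹ • ψ := by
    have h1 := congrArg (fun y => cpx ρ (a * c)⁻¹ *ᵥ y) he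
    simp only [Matrix.mulVec_mulVec, ← map_mul, inv_mul_cancel, map_one, Matrix.one_mulVec,
      Matrix.mulVec_smul] at h1
    nth_rewrite 2 [h1]
    rw [smul_smul, inv_mul_cancel₀ hζ0, one_smul]
  have hsum : ((ζ + ζ⁻¹ : ℂ)).re = 2 * Real.cos θ := by
    rw [hζexp, ← Complex.exp_neg, Complex.add_re, ← neg_mul, ← Complex.ofReal_neg,
      Complex.exp_ofReal_mul_I_re, Complex.exp_ofReal_mul_I_re, Real.cos_neg]
    ring
  have hσ : (algebraMap ℚ ℂ).mapMatrix (6 + sigma ρ a c) *ᵥ ψ = (4 + 4 * (ζ + ζ⁻¹)) • ψ := by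
    rw [sigma_eq hρ ha hc, show (6 : Matrix (Fin n) (Fin n) ℚ) + (4 * (ρ (a * c) + ρ (a * c)⁻¹) - 2) =
      (4 : ℕ) • (1 + ρ (a * c) + ρ (a * c)⁻¹) by
        rw [nsmul_eq_mul, Nat.cast_ofNat, mul_add, mul_add, mul_add, mul_one,
          show (6 : Matrix (Fin n) (Fin n) ℚ) = 4 + 2 by norm_num]
        abel,
      map_nsmul, map_add, map_add, map_one, ← cpx_apply, ← cpx_apply, Matrix.smul_mulVec,
      Matrix.add_mulVec, Matrix.add_mulVec, Matrix.one_mulVec, he, he',
      ← Nat.cast_smul_eq_nsmul ℂ]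
    module
  have key := norm_diff hρ ha hc ψ
  rw [hσ, form_smul_right, form_self, form_self] at key
  have hre := congrArg Complex.re key
  rw [Complex.ofReal_re, Complex.mul_re, Complex.ofReal_im, mul_zero, sub_zero, Complex.ofReal_re,
    Complex.add_re, Complex.mul_re, hsum] at hre
  have hpos := form_pos (ρ := ρ) hψ
  have hnn : 0 ≤ (∑ g : G, ∑ i, Complex.normSq
      ((cpx ρ g *ᵥ ((algebraMap ℚ ℂ).mapMatrix (U ρ a - U ρ c) *ᵥ ψ)) i) : ℝ) :=
    Finset.sum_nonneg fun g _ => Finset.sum_nonneg fun i _ => Complex.normSq_nonneg _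
  have hcos : Real.cos θ < -1 / 2 := by
    have hπ := Real.pi_pos
    have hNR : (0 : ℝ) < N := by exact_mod_cast hN0
    have hl : 2 * Real.pi / 3 < θ := by
      rw [hθ, mul_div_assoc', lt_div_iff₀ hNR]
      have : (N : ℝ) < 3 * k := by exact_mod_cast h3
      nlinarith
    have hu : θ < 4 * Real.pi / 3 := by
      rw [hθ, mul_div_assoc', div_lt_iff₀ hNR]
      have : (3 : ℝ) * k < 2 * N := by exact_mod_cast h3'
      nlinarith
    have h23 : Real.cos (2 * Real.pi / 3) = -1 / 2 := by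
      rw [show 2 * Real.pi / 3 = Real.pi - Real.pi / 3 by ring, Real.cos_pi_sub, Real.cos_pi_div_three]
      ring
    rcases le_or_gt θ Real.pi with h | h
    · rw [← h23]
      exact Real.strictAntiOn_cos ⟨by linarith, by linarith⟩ ⟨by linarith, h⟩ hl
    · rw [← h23, ← Real.cos_two_pi_sub θ]
      exact Real.strictAntiOn_cos ⟨by linarith, by linarith⟩ ⟨by linarith, by linarith⟩ (by linarith)
  have h4 : (4 : ℂ).im = 0 := by simp
  rw [h4, zero_mul, sub_zero] at hre
  simp only [Complex.re_ofNat] at hre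
  nlinarith

/-- A product of order three of two elements of order three only arises from equal elements. -/
theorem eq_of_order_three {a c : G} (ha : orderOf a = 3) (hc : orderOf c = 3)
    (hac : orderOf (a * c) = 3) : a = c := by
  classical
  haveI := Fintype.ofFinite G
  have hσ : 6 + sigma ρ a c = 0 := by
    rw [sigma_eq hρ ha hc, map_inv_of_order_three hρ hac]
    noncomm_ring
    norm_num
  have hU : (algebraMap ℚ ℂ).mapMatrix (U ρ a - U ρ c) = 0 := by
    refine Matrix.ext_of_mulVec_single fun i => ?_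
    rw [Matrix.zero_mulVec]
    by_contra hne
    have key := norm_diff hρ ha hc (Pi.single i 1)
    rw [hσ, map_zero, Matrix.zero_mulVec, form_self] at key
    have h0 : form ρ (Pi.single i (1 : ℂ)) 0 = 0 := by simp [form]
    rw [h0, Complex.ofReal_eq_zero] at key
    exact (form_pos (ρ := ρ) hne).ne' key
  have hU' : U ρ a = U ρ c := sub_eq_zero.mp
    ((Matrix.map_injective (algebraMap ℚ ℂ).injective) (by simpa using hU))
  apply map_injective hρ
  apply smul_right_injective _ (two_ne_zero : (2 : ℚ) ≠ 0)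
  simp only [two_smul]
  linear_combination (norm := noncomm_ring) (by simpa [U] using hU' : 2 * ρ a = 2 * ρ c)

end Complex

end CfsgLib.Perm.Zassenhaus
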