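import Mathlib

/-!
# Quaternion coordinates in an algebra containing two anticommuting square roots of `-1`

If `i * i = j * j = -1` and `j * i = -(i * j)` in a `ℚ`-algebra, every element is uniquely
`P + i A + j B + i j C` with `P`, `A`, `B`, `C` in the centralizer of `i` and `j`.
-/

set_option autoImplicit false

namespace CfsgLib.Perm.Zassenhaus

variable {R : Type*} [Ring R] [Algebra ℚ R]

/-- Two anticommuting square roots of `-1`. -/
structure Frame (i j : R) : Prop where
  ii : i * i = -1
  jj : j * j = -1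
  ji : j * i = -(i * j)

/-- The centralizer of the frame. -/
abbrev Coef (i j : R) : Subalgebra ℚ R := Subalgebra.centralizer ℚ ({i, j} : Set R)

/-- An element in coordinates. -/
def el (i j : R) (P A B C : Coef i j) : R :=
  (P : R) + i * (A : R) + j * (B : R) + i * (j * (C : R))

theorem mem_coef {i j x : R} : x ∈ Coef i j ↔ Commute i x ∧ Commute j x := by
  simp [Coef, Subalgebra.mem_centralizer_iff, Commute, SemiconjBy]

variable {i j : R}

theorem coef_comm_i (x : Coef i j) : (x : R) * i = i * x :=
  ((mem_coef.mp x.2).1).symm.eq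

theorem coef_comm_j (x : Coef i j) : (x : R) * j = j * x :=
  ((mem_coef.mp x.2).2).symm.eq

theorem coef_comm_i' (x : Coef i j) (y : R) : (x : R) * (i * y) = i * (x * y) := by
  rw [← mul_assoc, coef_comm_i, mul_assoc]

theorem coef_comm_j' (x : Coef i j) (y : R) : (x : R) * (j * y) = j * (x * y) := by
  rw [← mul_assoc, coef_comm_j, mul_assoc]

namespace Frame

variable (h : Frame i j)
include h

theorem ii' (y : R) : i * (i * y) = -y := by rw [← mul_assoc, h.ii, neg_one_mul]

theorem jj' (y : R) : j * (j * y) = -y := by rw [← mul_assoc, h.jj, neg_one_mul]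

theorem ji' (y : R) : j * (i * y) = -(i * (j * y)) := by
  rw [← mul_assoc, h.ji, neg_mul, mul_assoc]

theorem el_mul (P A B C P' A' B' C' : Coef i j) :
    el i j P A B C * el i j P' A' B' C' =
      el i j (P * P' - A * A' - B * B' - C * C') (P * A' + A * P' + B * C' - C * B')
        (P * B' + B * P' + C * A' - A * C') (P * C' + C * P' + A * B' - B * A') := by
  simp only [el, AddSubgroupClass.coe_sub, Subalgebra.coe_add, Subalgebra.coe_mul, mul_add,
    add_mul, mul_sub, mul_assoc, coef_comm_i', coef_comm_j', h.ii', h.jj', h.ji', mul_neg, neg_mul,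
    neg_neg, neg_add]
  abel

/-- The scalar coordinate. -/
noncomputable def proj (i j : R) (x : R) : R :=
  (1 / 4 : ℚ) • (x - i * (x * i) - j * (x * j) - i * (j * (x * (i * j))))

theorem proj_mem (x : R) : proj i j x ∈ Coef i j := by
  rw [mem_coef]
  constructor <;>
  · show _ * _ = _ * _
    simp only [proj, mul_smul_comm, smul_mul_assoc, mul_sub, sub_mul, mul_assoc, h.ii, h.ii', h.jj,
      h.jj', h.ji, h.ji', mul_neg, neg_mul, neg_neg, mul_one]
    congr 1
    abel

omit h in
theorem proj_add (x y : R) : proj i j (x + y) = proj i j x + proj i j y := by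
  simp only [proj, mul_add, add_mul, ← smul_add]
  congr 1
  abel

theorem proj_el (P A B C : Coef i j) : proj i j (el i j P A B C) = P := by
  simp only [proj, el, mul_sub, sub_mul, mul_add, add_mul, mul_assoc, coef_comm_i, coef_comm_j,
    coef_comm_i', coef_comm_j', h.ii, h.ii', h.jj, h.jj', h.ji, h.ji', mul_neg, neg_mul, neg_neg]
  module

theorem el_eq_zero {P A B C : Coef i j} (h0 : el i j P A B C = 0) :
    P = 0 ∧ A = 0 ∧ B = 0 ∧ C = 0 := by
  have key : ∀ (Q : Coef i j) (A' B' C' : Coef i j), el i j Q A' B' C' = 0 → Q = 0 := by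
    intro Q A' B' C' e
    have h1 := proj_el h Q A' B' C'
    rw [e] at h1
    apply Subtype.ext
    rw [← h1]
    simp [proj]
  refine ⟨key P A B C h0, ?_, ?_, ?_⟩
  · refine key A (-P) C (-B) ?_
    have : el i j A (-P) C (-B) = -(i * el i j P A B C) := by
      simp only [el, mul_add, h.ii', Subalgebra.coe_neg, mul_neg]
      abel
    rw [this, h0, mul_zero, neg_zero]
  · refine key B (-C) (-P) A ?_
    have : el i j B (-C) (-P) A = -(j * el i j P A B C) := by
      simp only [el, mul_add, h.ji', h.jj', Subalgebra.coe_neg, mul_neg, neg_neg]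
      abel
    rw [this, h0, mul_zero, neg_zero]
  · refine key C B (-A) (-P) ?_
    have : el i j C B (-A) (-P) = -(i * (j * el i j P A B C)) := by
      simp only [el, mul_add, h.ji', h.jj', h.ii', Subalgebra.coe_neg, mul_neg, neg_neg]
      abel
    rw [this, h0, mul_zero, mul_zero, neg_zero]

theorem el_inj {P A B C P' A' B' C' : Coef i j} :
    el i j P A B C = el i j P' A' B' C' ↔ P = P' ∧ A = A' ∧ B = B' ∧ C = C' := by
  refine ⟨fun e => ?_, by rintro ⟨rfl, rfl, rfl, rfl⟩; rfl⟩
  have : el i j (P - P') (A - A') (B - B') (C - C') = 0 := by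
    rw [← sub_eq_zero.mpr e]
    simp only [el, AddSubgroupClass.coe_sub, mul_sub]
    abel
  obtain ⟨e1, e2, e3, e4⟩ := el_eq_zero h this
  exact ⟨sub_eq_zero.mp e1, sub_eq_zero.mp e2, sub_eq_zero.mp e3, sub_eq_zero.mp e4⟩

theorem exists_el (x : R) : ∃ P A B C : Coef i j, x = el i j P A B C := by
  refine ⟨⟨proj i j x, h.proj_mem x⟩, ⟨proj i j (-(i * x)), h.proj_mem _⟩,
    ⟨proj i j (-(j * x)), h.proj_mem _⟩, ⟨proj i j (-(i * (j * x))), h.proj_mem _⟩, ?_⟩
  simp only [el, proj, mul_smul_comm, mul_sub, mul_assoc, h.ii, h.ii', h.jj, h.jj', h.ji, h.ji',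
    mul_neg, neg_mul, neg_neg]
  module

end Frame

theorem el_add (P A B C P' A' B' C' : Coef i j) :
    el i j P A B C + el i j P' A' B' C' = el i j (P + P') (A + A') (B + B') (C + C') := by
  simp only [el, Subalgebra.coe_add, mul_add]
  abel

theorem el_neg (P A B C : Coef i j) : -el i j P A B C = el i j (-P) (-A) (-B) (-C) := by
  simp only [el, Subalgebra.coe_neg, mul_neg]
  abel

theorem el_smul (q : ℚ) (P A B C : Coef i j) :
    q • el i j P A B C = el i j (q • P) (q • A) (q • B) (q • C) := by
  simp only [el, Subalgebra.coe_smul, mul_smul_comm, smul_add]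

theorem el_scalar (P : Coef i j) : el i j P 0 0 0 = P := by simp [el]

end CfsgLib.Perm.Zassenhaus
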