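import Cfsg.Agent.Lib.Perm.Zassenhaus.Classify

/-!
# Reduction modulo the square root of five

The elements of a group generated by a tetrahedral pair and an element in standard position have
coordinates in `ℤ[√5][1/2]`; reducing modulo `√5` embeds the group into `SL(2, 5)`.
-/

set_option autoImplicit false

namespace CfsgLib.Perm.Zassenhaus

open Matrix Quaternion

/-- The splitting of the quaternions over `ℤ[√5]` modulo `√5`. -/
def splitting : ℍ[ℤ√5] →+* Matrix (Fin 2) (Fin 2) (ZMod 5) where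
  toFun q := !![(q.re.re : ZMod 5) + 2 * q.imI.re, (q.imJ.re : ZMod 5) + 2 * q.imK.re;
    -(q.imJ.re : ZMod 5) + 2 * q.imK.re, (q.re.re : ZMod 5) - 2 * q.imI.re]
  map_one' := by
    ext i j; fin_cases i <;> fin_cases j <;> simp
  map_zero' := by
    ext i j; fin_cases i <;> fin_cases j <;> simp
  map_add' x y := by
    ext i j; fin_cases i <;> fin_cases j <;> simp <;> ring
  map_mul' x y := by
    have h5 : (5 : ZMod 5) = 0 := by decide
    ext i j; fin_cases i <;> fin_cases j <;>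
      simp [Matrix.mul_apply, Fin.sum_univ_two] <;> rw [← sub_eq_zero] <;> ring_nf <;> reduce_mod_char

/-- A quaternion from its coordinates. -/
def mk4 (p x y z : ℤ√5) : ℍ[ℤ√5] := ⟨p, x, y, z⟩

@[simp] theorem mk4_re (p x y z : ℤ√5) : (mk4 p x y z).re = p := rfl
@[simp] theorem mk4_imI (p x y z : ℤ√5) : (mk4 p x y z).imI = x := rfl
@[simp] theorem mk4_imJ (p x y z : ℤ√5) : (mk4 p x y z).imJ = y := rfl
@[simp] theorem mk4_imK (p x y z : ℤ√5) : (mk4 p x y z).imK = z := rfl

variable {G : Type*} [Group G] [Finite G] {n : ℕ} [NeZero n]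
  {ρ : G →* Matrix (Fin n) (Fin n) ℚ} {a b : G}

section Ell

variable {S : Kc ρ a b} (hS : S * S = (5 : ℚ) • 1)

/-- The ring `ℤ[√5]` inside the coefficient ring. -/
noncomputable def ell : ℤ√5 →+* Kc ρ a b where
  toFun z := (z.re : ℚ) • 1 + (z.im : ℚ) • S
  map_one' := by simp
  map_zero' := by simp
  map_add' x y := by simp only [Zsqrtd.re_add, Zsqrtd.im_add, Int.cast_add]; module
  map_mul' x y := by
    simp only [Zsqrtd.re_mul, Zsqrtd.im_mul, Int.cast_add, Int.cast_mul, mul_add, add_mul,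
      smul_mul_assoc, mul_smul_comm, one_mul, mul_one, hS, smul_smul, Int.cast_ofNat]
    module

omit [Finite G] in
theorem ell_injective : Function.Injective (ell hS) := by
  rw [injective_iff_map_eq_zero]
  intro z hz
  change (z.re : ℚ) • (1 : Kc ρ a b) + (z.im : ℚ) • S = 0 at hz
  rcases eq_or_ne z.im 0 with h | h
  · rw [h, Int.cast_zero, zero_smul, add_zero, ← zero_smul ℚ (1 : Kc ρ a b)] at hz
    exact Zsqrtd.ext (by exact_mod_cast scal_inj hz) h
  exfalso
  have h0 : (z.im : ℚ) ≠ 0 := by exact_mod_cast h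
  have e : S = (-(z.re : ℚ) / z.im) • (1 : Kc ρ a b) := by
    apply smul_right_injective _ h0
    simp only [smul_smul]
    rw [mul_div_cancel₀ _ h0, neg_smul]
    exact eq_neg_of_add_eq_zero_right hz
  rw [e, smul_mul_smul_comm, one_mul] at hS
  exact sq_ne_twenty (2 * (-(z.re : ℚ) / z.im)) (by linear_combination 4 * scal_inj hS)

end Ell

/-- The coordinate data of a group with tetrahedral pair and an element in standard position. -/
structure Icos (ρ : G →* Matrix (Fin n) (Fin n) ℚ) (a b c : G) (S : Kc ρ a b) : Prop where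
  pair : Pair ρ a b
  normal : IsNormal ρ a b c S

variable {c : G} {S : Kc ρ a b}

namespace Icos

variable (D : Icos ρ a b c S)
include D

omit [Finite G] in
theorem el_mul' (q q' : ℍ[ℤ√5]) :
    E ρ a b (ell D.normal.sq (q * q').re) (ell D.normal.sq (q * q').imI)
        (ell D.normal.sq (q * q').imJ) (ell D.normal.sq (q * q').imK) =
      E ρ a b (ell D.normal.sq q.re) (ell D.normal.sq q.imI) (ell D.normal.sq q.imJ)
          (ell D.normal.sq q.imK) *
        E ρ a b (ell D.normal.sq q'.re) (ell D.normal.sq q'.imI) (ell D.normal.sq q'.imJ)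
          (ell D.normal.sq q'.imK) := by
  rw [D.pair.mul_E]
  congr 1 <;>
    simp only [re_mul, imI_mul, imJ_mul, imK_mul, map_add, map_sub, map_mul] <;> abel

/-- The quaternions over `ℤ[√5]` in coordinates. -/
noncomputable def quat : ℍ[ℤ√5] →+* Matrix (Fin n) (Fin n) ℚ where
  toFun q := E ρ a b (ell D.normal.sq q.re) (ell D.normal.sq q.imI) (ell D.normal.sq q.imJ)
    (ell D.normal.sq q.imK)
  map_one' := by
    simp only [re_one, imI_one, imJ_one, imK_one, map_one, map_zero]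
    rw [E, el_scalar]; rfl
  map_zero' := by
    simp only [re_zero, imI_zero, imJ_zero, imK_zero, map_zero]
    exact Pair.zero_E.symm
  map_add' x y := by simp only [re_add, imI_add, imJ_add, imK_add, map_add, Pair.add_E]
  map_mul' := D.el_mul'

omit [Finite G] in
theorem quat_apply (q : ℍ[ℤ√5]) : D.quat q = E ρ a b (ell D.normal.sq q.re)
    (ell D.normal.sq q.imI) (ell D.normal.sq q.imJ) (ell D.normal.sq q.imK) := rfl

omit [Finite G] in
theorem quat_injective : Function.Injective D.quat := by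
  intro x y h
  obtain ⟨h1, h2, h3, h4⟩ := D.pair.inj h
  exact QuaternionAlgebra.ext (ell_injective _ h1) (ell_injective _ h2) (ell_injective _ h3)
    (ell_injective _ h4)

/-- Matrices whose multiple by a power of two has coordinates in `ℤ[√5]`. -/
def IsInt (X : Matrix (Fin n) (Fin n) ℚ) : Prop :=
  ∃ (m : ℕ) (z : ℍ[ℤ√5]), 2 ^ m * X = D.quat z

omit [Finite G] in
theorem scale {X : Matrix (Fin n) (Fin n) ℚ} {m : ℕ} {z : ℍ[ℤ√5]} (h : 2 ^ m * X = D.quat z)
    (k : ℕ) : 2 ^ (k + m) * X = D.quat (2 ^ k * z) := by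
  rw [map_mul, map_pow, map_ofNat, pow_add, mul_assoc, h]

omit [Finite G] in
theorem prod_eq {X Y : Matrix (Fin n) (Fin n) ℚ} {m m' : ℕ} {z z' : ℍ[ℤ√5]}
    (h : 2 ^ m * X = D.quat z) (h' : 2 ^ m' * Y = D.quat z') :
    2 ^ (m + m') * (X * Y) = D.quat (z * z') := by
  rw [map_mul, ← h, ← h', pow_add, mul_assoc, mul_assoc]
  congr 1
  rw [← mul_assoc, ← mul_assoc, ((Commute.ofNat_left 2 X).pow_left m').eq]

/-- The ring of integral matrices. -/
def intRing : Subring (Matrix (Fin n) (Fin n) ℚ) where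
  carrier := {X | D.IsInt X}
  mul_mem' := fun ⟨_, _, h⟩ ⟨_, _, h'⟩ => ⟨_, _, D.prod_eq h h'⟩
  one_mem' := ⟨0, 1, by simp⟩
  zero_mem' := ⟨0, 0, by simp⟩
  add_mem' := fun {X Y} ⟨m, z, h⟩ ⟨m', z', h'⟩ => ⟨m + m', 2 ^ m' * z + 2 ^ m * z', by
    rw [map_add, mul_add, ← D.scale h, ← D.scale h', add_comm m' m]⟩
  neg_mem' := fun {X} ⟨m, z, h⟩ => ⟨m, -z, by rw [mul_neg, h, map_neg]⟩

/-- The reduction. -/
noncomputable def redFun (X : D.intRing) : Matrix (Fin 2) (Fin 2) (ZMod 5) :=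
  3 ^ X.2.choose * splitting X.2.choose_spec.choose

omit [Finite G] in
theorem redFun_eq (X : D.intRing) {m : ℕ} {z : ℍ[ℤ√5]}
    (h : 2 ^ m * (X : Matrix (Fin n) (Fin n) ℚ) = D.quat z) :
    D.redFun X = 3 ^ m * splitting z := by
  unfold redFun
  suffices H : ∀ (m' : ℕ) (z' : ℍ[ℤ√5]), 2 ^ m' * (X : Matrix (Fin n) (Fin n) ℚ) = D.quat z' →
      3 ^ m' * splitting z' = 3 ^ m * splitting z from H _ _ X.2.choose_spec.choose_spec
  intro m' z' h'
  have e : 2 ^ m * z' = 2 ^ m' * z := by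
    apply D.quat_injective
    rw [← D.scale h', ← D.scale h, add_comm]
  have h6 : ∀ k : ℕ, (3 : Matrix (Fin 2) (Fin 2) (ZMod 5)) ^ k * 2 ^ k = 1 := fun k => by
    rw [← Commute.mul_pow (Commute.ofNat_right _ 2), show (3 : Matrix (Fin 2) (Fin 2) (ZMod 5)) * 2 = 1
      by decide, one_pow]
  have e2 : (2 : Matrix (Fin 2) (Fin 2) (ZMod 5)) ^ m * splitting z' = 2 ^ m' * splitting z := by
    simpa only [map_mul, map_pow, map_ofNat] using congrArg splitting e
  calc 3 ^ m' * splitting z' = 3 ^ m' * ((3 ^ m * 2 ^ m) * splitting z') := by rw [h6, one_mul]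
    _ = 3 ^ m' * (3 ^ m * (2 ^ m' * splitting z)) := by rw [mul_assoc, e2]
    _ = 3 ^ m * ((3 ^ m' * 2 ^ m') * splitting z) := by
        rw [← mul_assoc, ← pow_add, add_comm, pow_add, mul_assoc, mul_assoc]
    _ = _ := by rw [h6, one_mul]

/-- The reduction homomorphism. -/
noncomputable def red : D.intRing →+* Matrix (Fin 2) (Fin 2) (ZMod 5) where
  toFun := D.redFun
  map_one' := by
    rw [D.redFun_eq 1 (m := 0) (z := 1) (by simp)]; simp
  map_zero' := by
    rw [D.redFun_eq 0 (m := 0) (z := 0) (by simp)]; simp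
  map_mul' X Y := by
    obtain ⟨m, z, h⟩ := X.2
    obtain ⟨m', z', h'⟩ := Y.2
    rw [D.redFun_eq (X * Y) (by push_cast; exact D.prod_eq h h'), D.redFun_eq X h,
      D.redFun_eq Y h', map_mul, pow_add, mul_assoc, mul_assoc]
    congr 1
    rw [← mul_assoc, ← mul_assoc, ((Commute.ofNat_left 3 (splitting z)).pow_left m').eq]
  map_add' X Y := by
    obtain ⟨m, z, h⟩ := X.2
    obtain ⟨m', z', h'⟩ := Y.2
    have hX := D.scale h m'
    have hY := D.scale h' m
    rw [add_comm m' m] at hX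
    rw [D.redFun_eq (X + Y) (m := m + m') (z := 2 ^ m' * z + 2 ^ m * z')
      (by push_cast; rw [mul_add, hX, hY, map_add]), D.redFun_eq X hX, D.redFun_eq Y hY,
      map_add, mul_add]

omit [Finite G] in
theorem red_eq (X : D.intRing) {m : ℕ} {z : ℍ[ℤ√5]}
    (h : 2 ^ m * (X : Matrix (Fin n) (Fin n) ℚ) = D.quat z) :
    D.red X = 3 ^ m * splitting z := D.redFun_eq X h

/-- The elements of the group with integral matrix. -/
def intGroup : Submonoid G := Submonoid.comap ρ D.intRing.toSubmonoid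

omit [Finite G] in
theorem map_two_pow (m : ℕ) (X : Matrix (Fin n) (Fin n) ℚ) :
    (2 : Matrix (Fin n) (Fin n) ℚ) ^ m * X = ((2 : ℚ) ^ m) • X := by
  rw [Algebra.smul_def, map_pow, map_ofNat]

omit [Finite G] in
theorem mem_a : a ∈ D.intGroup := by
  refine ⟨1, mk4 (-1) 1 1 1, ?_⟩
  rw [D.map_two_pow, D.pair.map_a, Pair.smul_E, D.quat_apply]
  congr 1 <;> simp [map_neg, smul_smul] <;> norm_num

omit [Finite G] in
theorem mem_b : b ∈ D.intGroup := by
  refine ⟨1, mk4 (-1) 1 (-1) (-1), ?_⟩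
  rw [D.map_two_pow, D.pair.map_E D.pair.U_right, Pair.smul_E, D.quat_apply]
  congr 1 <;> simp [map_neg, smul_smul]

omit [Finite G] in
theorem mem_c : c ∈ D.intGroup := by
  refine ⟨2, mk4 ⟨-2, 0⟩ 0 ⟨1, 1⟩ ⟨1, -1⟩, ?_⟩
  rw [D.map_two_pow, D.pair.map_E D.normal.axis, Pair.smul_E, D.quat_apply]
  congr 1 <;> simp [ell, phi, psi] <;> module

/-- The subgroup generated by the three elements. -/
def gen (_ : Icos ρ a b c S) : Subgroup G := Subgroup.closure {a, b, c}

theorem gen_le {g : G} (hg : g ∈ D.gen) : ρ g ∈ D.intRing := by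
  refine Subgroup.closure_induction (fun x hx => ?_) ?_ (fun x y _ _ h h' => ?_)
    (fun x _ h => ?_) hg
  · rcases hx with rfl | rfl | rfl
    exacts [D.mem_a, D.mem_b, D.mem_c]
  · rw [map_one]; exact one_mem _
  · rw [map_mul]; exact mul_mem h h'
  · have : x⁻¹ = x ^ (orderOf x - 1) := by
      rw [eq_comm, eq_inv_iff_mul_eq_one, ← pow_succ, Nat.sub_add_cancel (orderOf_pos x),
        pow_orderOf_eq_one]
    rw [this, map_pow]
    exact pow_mem h _

/-- The reduction on the group. -/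
noncomputable def redHom : D.gen →* Matrix (Fin 2) (Fin 2) (ZMod 5) where
  toFun g := D.red ⟨ρ g, D.gen_le g.2⟩
  map_one' := by
    rw [← map_one D.red]; congr 1; exact Subtype.ext (by simp)
  map_mul' x y := by
    rw [← map_mul D.red]; congr 1; exact Subtype.ext (by simp)

theorem redHom_apply {g : G} (hg : g ∈ D.gen) : D.redHom ⟨g, hg⟩ = D.red ⟨ρ g, D.gen_le hg⟩ := rfl

omit [Finite G] in
theorem red_smul_one (k : ℤ) (X : D.intRing)
    (h : (X : Matrix (Fin n) (Fin n) ℚ) = (k : ℚ) • 1) : D.red X = (k : Matrix (Fin 2) (Fin 2) (ZMod 5)) := by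
  rw [← map_intCast D.red]
  congr 1
  exact Subtype.ext (by rw [h, Int.cast_smul_eq_zsmul]; simp)

theorem eq_of_red_eq {d e : G} (hd : orderOf d = 3) (he : orderOf e = 3) (hdm : d ∈ D.gen)
    (hem : e ∈ D.gen) (h : D.redHom ⟨d, hdm⟩ = D.redHom ⟨e, hem⟩) : d = e := by
  set X : D.intRing := 2 * ⟨ρ d, D.gen_le hdm⟩ + 1 with hXdef
  set Y : D.intRing := 2 * ⟨ρ e, D.gen_le hem⟩ + 1 with hYdef
  have hX : (X : Matrix (Fin n) (Fin n) ℚ) = U ρ d := by rw [hXdef, U]; rfl
  have hY : (Y : Matrix (Fin n) (Fin n) ℚ) = U ρ e := by rw [hYdef, U]; rfl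
  have hσ : ((X * Y + Y * X : D.intRing) : Matrix (Fin n) (Fin n) ℚ) = sigma ρ d e := by
    rw [sigma, ← hX, ← hY]; rfl
  have hXY : D.red X = D.red Y := by
    rw [hXdef, hYdef, map_add, map_add, map_mul, map_mul]
    exact congrArg (fun M => D.red 2 * M + D.red 1) h
  have h2 : D.red (X * Y + Y * X) = ((-6 : ℤ) : Matrix (Fin 2) (Fin 2) (ZMod 5)) := by
    rw [map_add, map_mul, map_mul, ← hXY, ← map_mul, ← map_add]
    refine D.red_smul_one _ _ ?_
    push_cast
    rw [hX, U_sq' D.pair.fpf hd]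
    module
  have hint : ∀ k : ℤ, sigma ρ d e = (k : ℚ) • 1 →
      ((k : ℤ) : Matrix (Fin 2) (Fin 2) (ZMod 5)) = ((-6 : ℤ) : Matrix (Fin 2) (Fin 2) (ZMod 5)) :=
    fun k hk => by rw [← h2, D.red_smul_one k _ (hσ.trans hk)]
  rcases sigma_table D.pair.fpf hd he with t | t | t | t | t
  · exact absurd (hint 6 (by rw [t.2.2]; norm_num)) (by decide)
  · exact t.2.1.symm
  · exact absurd (hint (-2) (by rw [t.2]; norm_num)) (by decide)
  · exact absurd (hint 2 (by rw [t.2]; norm_num)) (by decide)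
  · exfalso
    have h20 : D.red ((X * Y + Y * X) * (X * Y + Y * X)) =
        ((20 : ℤ) : Matrix (Fin 2) (Fin 2) (ZMod 5)) := by
      refine D.red_smul_one _ _ ?_
      rw [Subring.coe_mul, hσ, t.2]
      norm_num
    rw [map_mul, h2, ← Int.cast_mul] at h20
    revert h20
    decide

theorem commute_of_red_one {g : G} (hg : g ∈ D.gen) (h : D.redHom ⟨g, hg⟩ = 1) {d : G}
    (hd : orderOf d = 3) (hdm : d ∈ D.gen) : Commute g d := by
  have hm : g * d * g⁻¹ ∈ D.gen := mul_mem (mul_mem hg hdm) (inv_mem hg)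
  have e : g * d * g⁻¹ = d := by
    refine D.eq_of_red_eq (D.pair.conj_order g d hd) hd hm hdm ?_
    have : (⟨g * d * g⁻¹, hm⟩ : D.gen) = ⟨g, hg⟩ * ⟨d, hdm⟩ * ⟨g, hg⟩⁻¹ := rfl
    rw [this, map_mul, map_mul, h, one_mul]
    have h1 : D.redHom ⟨g, hg⟩⁻¹ = 1 := by
      have := congrArg D.redHom (mul_inv_cancel (⟨g, hg⟩ : D.gen))
      rwa [map_mul, h, one_mul, map_one] at this
    rw [h1, mul_one]
  exact mul_inv_eq_iff_eq_mul.mp e

theorem commute_qi_qj {g : G} (ha : Commute g a) (hb : Commute g b) :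
    ρ g ∈ Kc ρ a b := by
  have hu : Commute (ρ g) (U ρ a) := (commute_U_iff D.pair.fpf).mpr ha
  have hv : Commute (ρ g) (U ρ b) := (commute_U_iff D.pair.fpf).mpr hb
  refine mem_coef.mpr ⟨?_, ?_⟩
  · exact ((hu.add_right hv).smul_right _).symm
  · exact (((hu.sub_right hv).sub_right (Commute.one_right _)).add_right
      (hu.mul_right hv)).smul_right _ |>.symm

/-- An element commuting with the pair is `±1`. -/
theorem eq_one_or_involution {g : G} (hg : g ∈ D.gen) (ha : Commute g a) (hb : Commute g b) :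
    ρ g = 1 ∨ ρ g = -1 := by
  have hK := D.commute_qi_qj ha hb
  obtain ⟨m, z, hz⟩ := D.gen_le hg
  have e : D.quat z = E ρ a b ((2 : ℚ) ^ m • ⟨ρ g, hK⟩) 0 0 0 := by
    rw [← hz, D.map_two_pow, E, el_scalar]; rfl
  obtain ⟨-, h2, h3, h4⟩ := D.pair.inj e
  have hz' : z = ((z.re : ℤ√5) : ℍ[ℤ√5]) := by
    refine QuaternionAlgebra.ext rfl ?_ ?_ ?_
    all_goals apply ell_injective D.normal.sq
    · exact h2.trans (map_zero _).symm
    · exact h3.trans (map_zero _).symm
    · exact h4.trans (map_zero _).symm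
  set s := z.re
  set r := orderOf g with hr
  have hr0 : r ≠ 0 := (orderOf_pos g).ne'
  have hs : (z.re : ℤ√5) ^ r = 2 ^ (m * r) := by
    apply Quaternion.coe_injective
    apply D.quat_injective
    rw [show ((z.re ^ r : ℤ√5) : ℍ[ℤ√5]) = z ^ r by
        conv_rhs => rw [hz']
        exact map_pow (algebraMap (ℤ√5) ℍ[ℤ√5]) _ _]
    rw [show (((2 : ℤ√5) ^ (m * r) : ℤ√5) : ℍ[ℤ√5]) = 2 ^ (m * r) from
        (map_pow (algebraMap (ℤ√5) ℍ[ℤ√5]) _ _).trans (by rw [map_ofNat]),
      map_pow, ← hz, (((Commute.ofNat_left 2 (ρ g)).pow_left m)).mul_pow, ← map_pow ρ, hr,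
      pow_orderOf_eq_one, map_one, mul_one, ← pow_mul, map_pow, map_ofNat]
  have hsq : ∀ k : ℤ, (5 : ℤ) ≠ k * k := fun k hk => by
    have : k.natAbs * k.natAbs = 5 := by rw [← Int.natAbs_mul, ← hk]; rfl
    have : k.natAbs ≤ 2 := by nlinarith
    interval_cases k.natAbs <;> omega
  let τ := Zsqrtd.toReal (d := 5) (by norm_num)
  have hx : τ s ^ r = ((2 : ℝ) ^ m) ^ r := by
    rw [← map_pow, hs, map_pow, map_ofNat, pow_mul]
  have habs : |τ s| = (2 : ℝ) ^ m := by
    refine (pow_left_inj₀ (abs_nonneg _) (by positivity) hr0).mp ?_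
    rw [← abs_pow, hx, abs_of_nonneg (by positivity)]
  have h2m : IsUnit ((2 : Matrix (Fin n) (Fin n) ℚ) ^ m) := by
    rw [← map_ofNat (algebraMap ℚ (Matrix (Fin n) (Fin n) ℚ)) 2]
    exact ((IsUnit.mk0 _ two_ne_zero).map _).pow m
  rcases (abs_eq (by positivity)).mp habs with hp | hp
  · left
    have : s = 2 ^ m := Zsqrtd.toReal_injective (by norm_num) hsq (by
      show τ s = τ _; rw [map_pow, map_ofNat, hp])
    apply h2m.mul_left_cancel
    rw [hz, hz', this, mul_one]
    push_cast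
    rw [map_pow, show ((2 : ℤ√5) : ℍ[ℤ√5]) = 2 from map_ofNat (algebraMap (ℤ√5) ℍ[ℤ√5]) 2, map_ofNat]
  · right
    have : s = -2 ^ m := Zsqrtd.toReal_injective (by norm_num) hsq (by
      show τ s = τ _; rw [map_neg, map_pow, map_ofNat, hp])
    apply h2m.mul_left_cancel
    rw [hz, hz', this, mul_neg, mul_one]
    push_cast
    rw [map_neg, map_pow, show ((2 : ℤ√5) : ℍ[ℤ√5]) = 2 from map_ofNat (algebraMap (ℤ√5) ℍ[ℤ√5]) 2, map_ofNat]

theorem redHom_injective : Function.Injective D.redHom := by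
  rw [injective_iff_map_eq_one]
  rintro ⟨g, hg⟩ h
  have hm : ∀ x ∈ ({a, b, c} : Set G), x ∈ D.gen := fun x hx => Subgroup.subset_closure hx
  have ha := D.commute_of_red_one hg h D.pair.ha (hm a (by simp))
  have hb := D.commute_of_red_one hg h D.pair.hb (hm b (by simp))
  rcases D.eq_one_or_involution hg ha hb with e | e
  · exact Subtype.ext (eq_one_of_map_eq D.pair.fpf e)
  · exfalso
    rw [D.redHom_apply hg, D.red_smul_one (-1) _ (by show ρ g = _; rw [e]; simp)] at h
    revert h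
    decide

end Icos

end CfsgLib.Perm.Zassenhaus
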