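import Cfsg.Agent.Lib.Perm.Zassenhaus.Cases
import Cfsg.Agent.Lib.Perm.Zassenhaus.Quat

/-!
# The quaternion frame of a tetrahedral pair

A pair `a`, `b` of elements of order three with anticommutator two spans a quaternion frame; the
products `a * b⁻¹` and its conjugate under `a` map to `-j` and `-i`.
-/

set_option autoImplicit false

namespace CfsgLib.Perm.Zassenhaus

open Matrix

variable {G : Type*} [Group G] {n : ℕ} [NeZero n] {ρ : G →* Matrix (Fin n) (Fin n) ℚ}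
  {a b : G}

/-- The ring structure of the coefficient ring, with all operations from one structure. -/
noncomputable instance coefRing (i j : Matrix (Fin n) (Fin n) ℚ) : Ring (Coef i j) :=
  Subalgebra.toRing _

/-- A tetrahedral pair. -/
structure Pair (ρ : G →* Matrix (Fin n) (Fin n) ℚ) (a b : G) : Prop where
  fpf : ∀ g : G, g ≠ 1 → IsUnit (ρ g - 1)
  ha : orderOf a = 3
  hb : orderOf b = 3
  hab : sigma ρ a b = (2 : ℚ) • 1

/-- The first unit of the frame. -/
def qi (ρ : G →* Matrix (Fin n) (Fin n) ℚ) (a b : G) : Matrix (Fin n) (Fin n) ℚ :=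
  (1 / 2 : ℚ) • (U ρ a + U ρ b)

/-- The second unit of the frame. -/
def qj (ρ : G →* Matrix (Fin n) (Fin n) ℚ) (a b : G) : Matrix (Fin n) (Fin n) ℚ :=
  (1 / 4 : ℚ) • (U ρ a - U ρ b - 1 + U ρ a * U ρ b)

/-- The coefficient ring of the frame. -/
abbrev Kc (ρ : G →* Matrix (Fin n) (Fin n) ℚ) (a b : G) :
    Subalgebra ℚ (Matrix (Fin n) (Fin n) ℚ) :=
  Coef (qi ρ a b) (qj ρ a b)

/-- Coordinates in the frame of `a`, `b`. -/
def E (ρ : G →* Matrix (Fin n) (Fin n) ℚ) (a b : G) (P A B C : Kc ρ a b) :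
    Matrix (Fin n) (Fin n) ℚ :=
  el (qi ρ a b) (qj ρ a b) P A B C

theorem U_conj (g c : G) : U ρ (g * c * g⁻¹) = ρ g * U ρ c * ρ g⁻¹ := by
  have e : ρ g * ρ g⁻¹ = 1 := by rw [← map_mul, mul_inv_cancel, map_one]
  rw [U, U, map_mul, map_mul]
  linear_combination (norm := noncomm_ring) -e

theorem conj_of_mul_eq {g : G} {x y : Matrix (Fin n) (Fin n) ℚ} (h : ρ g * x = y * ρ g) :
    ρ g * x * ρ g⁻¹ = y := by
  rw [h, mul_assoc, ← map_mul, mul_inv_cancel, map_one, mul_one]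

namespace Pair

variable (T : Pair ρ a b)
include T

theorem rel : U ρ b * U ρ a = (2 : ℚ) • 1 - U ρ a * U ρ b := by
  rw [← T.hab, sigma]; abel

theorem frame : Frame (qi ρ a b) (qj ρ a b) := by
  have uu := U_sq' T.fpf T.ha
  have vv := U_sq' T.fpf T.hb
  have vu := T.rel
  set u := U ρ a with hu
  set v := U ρ b with hv
  have uu' : ∀ x, u * (u * x) = (-3 : ℚ) • x := fun x => by
    rw [← mul_assoc, uu, smul_mul_assoc, one_mul]
  have vv' : ∀ x, v * (v * x) = (-3 : ℚ) • x := fun x => by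
    rw [← mul_assoc, vv, smul_mul_assoc, one_mul]
  have vu' : ∀ x, v * (u * x) = (2 : ℚ) • x - u * (v * x) := fun x => by
    rw [← mul_assoc, vu, sub_mul, smul_mul_assoc, one_mul, mul_assoc]
  constructor <;>
  · simp only [qi, qj, ← hu, ← hv, mul_add, mul_sub, add_mul, sub_mul, smul_mul_assoc, mul_smul_comm,
      mul_assoc, one_mul, mul_one, uu, uu', vv, vv', vu, vu', smul_add, smul_sub, smul_smul]
    module

theorem U_left : U ρ a = E ρ a b 0 1 1 1 := by
  have uu := U_sq' T.fpf T.ha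
  have vv := U_sq' T.fpf T.hb
  have vu := T.rel
  set u := U ρ a with hu
  set v := U ρ b with hv
  have uu' : ∀ x, u * (u * x) = (-3 : ℚ) • x := fun x => by
    rw [← mul_assoc, uu, smul_mul_assoc, one_mul]
  have vv' : ∀ x, v * (v * x) = (-3 : ℚ) • x := fun x => by
    rw [← mul_assoc, vv, smul_mul_assoc, one_mul]
  have vu' : ∀ x, v * (u * x) = (2 : ℚ) • x - u * (v * x) := fun x => by
    rw [← mul_assoc, vu, sub_mul, smul_mul_assoc, one_mul, mul_assoc]
  rw [E, el]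
  simp only [Subalgebra.coe_zero, Subalgebra.coe_one, zero_add, mul_one, qi, qj, ← hu, ← hv,
    mul_add, mul_sub, add_mul, sub_mul, smul_mul_assoc, mul_smul_comm, mul_assoc, one_mul, uu, uu',
    vv, vv', vu, vu', smul_add, smul_sub, smul_smul]
  module

theorem U_right : U ρ b = E ρ a b 0 1 (-1) (-1) := by
  have h := T.U_left
  have : U ρ a + U ρ b = (2 : ℚ) • qi ρ a b := by rw [qi, smul_smul]; norm_num
  rw [eq_sub_of_add_eq' this, h, E, E, el, el]
  simp only [Subalgebra.coe_zero, Subalgebra.coe_one, Subalgebra.coe_neg, mul_neg, mul_one,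
    zero_add, smul_add]
  module

theorem mul_E (P A B C P' A' B' C' : Kc ρ a b) :
    E ρ a b P A B C * E ρ a b P' A' B' C' =
      E ρ a b (P * P' - A * A' - B * B' - C * C') (P * A' + A * P' + B * C' - C * B')
        (P * B' + B * P' + C * A' - A * C') (P * C' + C * P' + A * B' - B * A') :=
  T.frame.el_mul P A B C P' A' B' C'

theorem inj {P A B C P' A' B' C' : Kc ρ a b}
    (h : E ρ a b P A B C = E ρ a b P' A' B' C') : P = P' ∧ A = A' ∧ B = B' ∧ C = C' :=
  T.frame.el_inj.mp h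

theorem exists_E (x : Matrix (Fin n) (Fin n) ℚ) : ∃ P A B C, x = E ρ a b P A B C :=
  T.frame.exists_el x

omit T in
theorem add_E (P A B C P' A' B' C' : Kc ρ a b) :
    E ρ a b P A B C + E ρ a b P' A' B' C' = E ρ a b (P + P') (A + A') (B + B') (C + C') :=
  el_add P A B C P' A' B' C'

omit T in
theorem neg_E (P A B C : Kc ρ a b) : -E ρ a b P A B C = E ρ a b (-P) (-A) (-B) (-C) :=
  el_neg P A B C

omit T in
theorem smul_E (q : ℚ) (P A B C : Kc ρ a b) :
    q • E ρ a b P A B C = E ρ a b (q • P) (q • A) (q • B) (q • C) :=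
  el_smul q P A B C

omit T in
theorem scalar_E (q : ℚ) :
    q • (1 : Matrix (Fin n) (Fin n) ℚ) = E ρ a b (q • 1) 0 0 0 := by
  rw [E, el_scalar]; rfl

omit T in
theorem zero_E : (0 : Matrix (Fin n) (Fin n) ℚ) = E ρ a b 0 0 0 0 := by rw [E, el_scalar]; rfl

theorem map_E {c : G} {P A B C : Kc ρ a b} (h : U ρ c = E ρ a b P A B C) :
    ρ c = E ρ a b ((1 / 2 : ℚ) • (P - 1)) ((1 / 2 : ℚ) • A) ((1 / 2 : ℚ) • B) ((1 / 2 : ℚ) • C) := by
  rw [map_eq_smul T.fpf, h, sub_eq_add_neg, ← one_smul ℚ (1 : Matrix (Fin n) (Fin n) ℚ),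
    scalar_E (ρ := ρ) (a := a) (b := b), neg_E, add_E, smul_E]
  simp [sub_eq_add_neg]

theorem inv_E {c : G} (hc : orderOf c = 3) {P A B C : Kc ρ a b} (h : U ρ c = E ρ a b P A B C) :
    U ρ c⁻¹ = E ρ a b (-P) (-A) (-B) (-C) := by
  rw [U_inv T.fpf hc, h, neg_E]

theorem map_a : ρ a = E ρ a b ((-1 / 2 : ℚ) • 1) ((1 / 2 : ℚ) • 1) ((1 / 2 : ℚ) • 1)
    ((1 / 2 : ℚ) • 1) := by
  rw [T.map_E T.U_left]
  congr 1
  module

theorem map_gj : ρ (a * b⁻¹) = E ρ a b 0 0 (-1) 0 := by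
  rw [map_mul, T.map_a, T.map_E (T.inv_E T.hb T.U_right), T.mul_E]
  congr 1 <;> simp only [smul_mul_assoc, mul_smul_comm, one_mul, neg_neg, neg_zero, smul_sub,
    smul_zero, smul_neg, zero_sub, mul_neg, neg_mul] <;> module

theorem conj_a (c : G) {P A B C : Kc ρ a b} (h : U ρ c = E ρ a b P A B C) :
    U ρ (a * c * a⁻¹) = E ρ a b P B C A := by
  rw [U_conj, h]
  apply conj_of_mul_eq
  rw [T.map_a, T.mul_E, T.mul_E]
  congr 1 <;> simp only [smul_mul_assoc, mul_smul_comm, one_mul, mul_one] <;> module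

theorem map_gi : ρ (a * (a * b⁻¹) * a⁻¹) = E ρ a b 0 (-1) 0 0 := by
  rw [map_mul, map_mul, T.map_gj]
  apply conj_of_mul_eq
  rw [T.map_a, T.mul_E, T.mul_E]
  congr 1 <;>
    simp only [smul_mul_assoc, mul_smul_comm, one_mul, mul_one, mul_zero, zero_mul, mul_neg,
      neg_mul] <;> module

theorem conj_gj (c : G) {P A B C : Kc ρ a b} (h : U ρ c = E ρ a b P A B C) :
    U ρ (a * b⁻¹ * c * (a * b⁻¹)⁻¹) = E ρ a b P (-A) B (-C) := by
  rw [U_conj, h]
  apply conj_of_mul_eq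
  rw [T.map_gj, T.mul_E, T.mul_E]
  congr 1 <;>
    simp only [one_mul, mul_one, mul_zero, zero_mul, mul_neg, neg_mul] <;> module

theorem conj_gi (c : G) {P A B C : Kc ρ a b} (h : U ρ c = E ρ a b P A B C) :
    U ρ (a * (a * b⁻¹) * a⁻¹ * c * (a * (a * b⁻¹) * a⁻¹)⁻¹) = E ρ a b P A (-B) (-C) := by
  rw [U_conj, h]
  apply conj_of_mul_eq
  rw [T.map_gi, T.mul_E, T.mul_E]
  congr 1 <;>
    simp only [one_mul, mul_one, mul_zero, zero_mul, mul_neg, neg_mul] <;> module

end Pair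

end CfsgLib.Perm.Zassenhaus
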